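import Cfsg.Agent.H93.Common23
import Cfsg.Agent.H93.Members22
import Cfsg.Agent.H61.M24.Common

/-!
Largest sets of pairwise commuting common neighbours of two members that do not commute, in groups
of type M(22), M(23), M(24): the product is one.  A relation of length eight in a group of type M(23)
splits into two of length seven.
-/

set_option autoImplicit false
set_option linter.unusedSectionVars false

namespace Cfsg.Agent.H41.FischerTop

open Cfsg.Agent.H93
open Cfsg.Agent.H61.M24 (Data24)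

universe u

variable {G : Type u} [Group G] {D : Set G}

theorem pairwise_of_all {l : List G} (hcom : ∀ a ∈ l, ∀ b ∈ l, Commute a b) :
    l.Pairwise Commute :=
  List.Pairwise.imp_of_mem (R := fun _ _ => True) (fun ha hb _ => hcom _ ha _ hb)
    (List.pairwise_of_forall fun _ _ => trivial)

/-- Lists with the same members have the same product. -/
theorem prod_congr_of_mem {l l' : List G} (h1 : l.Nodup) (h2 : l'.Nodup)
    (hcom : ∀ a ∈ l, ∀ b ∈ l, Commute a b) (h : ∀ x, x ∈ l ↔ x ∈ l') : l.prod = l'.prod :=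
  ((List.perm_ext_iff_of_nodup h1 h2).mpr h).prod_eq' (pairwise_of_all hcom)

/-- Two short products of commuting members that agree have the same number of factors. -/
theorem length_eq_of_prod_eq (hD : TT D) {k : ℕ} (hi : Indep D k) :
    ∀ (n : ℕ) (l l' : List G), l.length = n → l.length + l'.length ≤ k → l.Nodup → l'.Nodup →
      (∀ a ∈ l ++ l', a ∈ D) → (∀ a ∈ l ++ l', ∀ b ∈ l ++ l', Commute a b) →
      l.prod = l'.prod → l.length = l'.length := by
  classical
  intro n
  induction n using Nat.strong_induction_on with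
  | _ n ih =>
    intro l l' hn hk hnd hnd' hmem hcom hp
    by_cases hshare : ∃ x ∈ l, x ∈ l'
    · obtain ⟨x, hx, hx'⟩ := hshare
      have hsub : ∀ b ∈ l.erase x ++ l'.erase x, b ∈ l ++ l' := fun b hb =>
        (List.mem_append.mp hb).elim (fun q => List.mem_append.mpr (Or.inl (List.mem_of_mem_erase q)))
          fun q => List.mem_append.mpr (Or.inr (List.mem_of_mem_erase q))
      have e1 := List.length_erase_of_mem hx
      have e2 := List.length_erase_of_mem hx'
      have p1 := List.length_pos_of_mem hx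
      have p2 := List.length_pos_of_mem hx'
      have := ih (n - 1) (by omega) (l.erase x) (l'.erase x) (by omega) (by omega) (hnd.erase x)
        (hnd'.erase x) (fun a ha => hmem a (hsub a ha))
        (fun a ha b hb => hcom a (hsub a ha) b (hsub b hb)) (by
          rw [prod_eq_cons_erase (fun a ha b hb => hcom a (List.mem_append_left _ ha) b
              (List.mem_append_left _ hb)) hx,
            prod_eq_cons_erase (fun a ha b hb => hcom a (List.mem_append_right _ ha) b
              (List.mem_append_right _ hb)) hx'] at hp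
          exact mul_left_cancel hp)
      omega
    · simp only [not_exists, not_and] at hshare
      by_contra hne
      refine hi (l ++ l') (List.nodup_append.mpr ⟨hnd, hnd', fun a ha b hb e => hshare a ha (e ▸ hb)⟩)
        (fun e => hne ?_) (by rw [List.length_append]; exact hk) hmem hcom ?_
      · rw [(List.append_eq_nil_iff.mp e).1, (List.append_eq_nil_iff.mp e).2]
      · rw [List.prod_append, hp]
        exact prod_sq_one hD l' (fun a ha => hmem a (List.mem_append_right _ ha))
          fun a ha b hb => hcom a (List.mem_append_right _ ha) b (List.mem_append_right _ hb)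

/-- A list of neighbours with product one in the residue multiplies to the member. -/
theorem prod_next {z : G}
    (two : ∀ g, ∀ hg : g ∈ nbSub D z,
      (QuotientGroup.mk (⟨g, hg⟩ : ↥(nbSub D z)) : Residue D z) = 1 → g = 1 ∨ g = z)
    {k : ℕ} (hi : Indep D k) {l : List G} (hne : l ≠ []) (hnd : l.Nodup) (hlen : l.length ≤ k)
    (hmem : ∀ y ∈ l, y ∈ nb D z) (hcom : ∀ a ∈ l, ∀ b ∈ l, Commute a b)
    (himg : (l.map (rimg D z)).prod = 1) : l.prod = z := by
  obtain ⟨hm, e⟩ := rimg_prod hmem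
  exact (two _ hm (e.trans himg)).resolve_left
    (hi l hnd hne hlen (fun y hy => (hmem y hy).1) hcom)

/-- Images of members in a residue. -/
theorem Core.map_rimg_nodup (h : Core D) {z : G} (hz : z ∈ D) {l : List G}
    (hmem : ∀ y ∈ l, y ∈ nb D z) (hnd : l.Nodup) : (l.map (rimg D z)).Nodup :=
  hnd.map_on fun x hx y hy e => (h.rimg_inj hz (hmem x hx) (hmem y hy)).mp e

theorem Core.map_rimg_commute (h : Core D) {z : G} {l : List G}
    (hmem : ∀ y ∈ l, y ∈ nb D z) (hcom : ∀ a ∈ l, ∀ b ∈ l, Commute a b) :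
    ∀ a ∈ l.map (rimg D z), ∀ b ∈ l.map (rimg D z), Commute a b := by
  intro a ha b hb
  obtain ⟨x, hx, rfl⟩ := List.mem_map.mp ha
  obtain ⟨y, hy, rfl⟩ := List.mem_map.mp hb
  exact (h.rimg_comm (hmem x hx) (hmem y hy)).mpr (hcom x hx y hy)

theorem Core.mem_common_rimg (h : Core D) {z p q x : G} (hz : z ∈ D) (hp : p ∈ nb D z)
    (hq : q ∈ nb D z) (hx : x ∈ nb D z) :
    rimg D z x ∈ common (resSet D z) (rimg D z p) (rimg D z q) ↔ x ∈ common D p q := by
  have key : ∀ {p}, p ∈ nb D z → (rimg D z x ∈ nb (resSet D z) (rimg D z p) ↔ x ∈ nb D p) := by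
    intro p hp
    exact ⟨fun e => ⟨hx.1, fun u => e.2.1 (by rw [u]), (h.rimg_comm hp hx).mp e.2.2⟩,
      fun e => h.rimg_nb hz hp ⟨hx, e⟩⟩
  exact and_congr (key hp) (key hq)

/-- A list in a residue comes from a list of neighbours. -/
theorem exists_lift_list {z : G} : ∀ {m : List (Residue D z)}, (∀ e ∈ m, e ∈ resSet D z) →
    ∃ l : List G, (∀ y ∈ l, y ∈ nb D z) ∧ l.map (rimg D z) = m
  | [], _ => ⟨[], fun _ h => absurd h List.not_mem_nil, rfl⟩
  | e :: m, h => by
    obtain ⟨y, hy, hye⟩ := rimg_surj (h e List.mem_cons_self)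
    obtain ⟨l, hl, hlm⟩ := exists_lift_list (m := m) fun x hx => h x (List.mem_cons_of_mem _ hx)
    exact ⟨y :: l, List.forall_mem_cons.mpr ⟨hy, hl⟩, by rw [List.map_cons, hye, hlm]⟩

variable [Finite G]

/-- Six pairwise commuting common neighbours in type M(22). -/
theorem prod_six {K : Type*} [Field K] [Fintype K] (h : Geo22 D K) (hi : Indep D 5) {a d : G}
    (ha : a ∈ D) (hd : d ∈ D) (hn : ¬ Commute a d) {l : List G} (hlen : l.length = 6)
    (hnd : l.Nodup) (hmem : ∀ y ∈ l, y ∈ common D a d) (hcom : ∀ x ∈ l, ∀ y ∈ l, Commute x y) :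
    l.prod = 1 := by
  classical
  have hK := h.hK
  match l, hlen with
  | [z, p, q, r1, r2, r3], _ =>
    set l5 := [p, q, r1, r2, r3] with hl5
    obtain ⟨hz5, hnd5⟩ := List.nodup_cons.mp hnd
    have hz := hmem z List.mem_cons_self
    have hS : ∀ y ∈ l5, y ∈ common D a d ∩ nb D z := fun y hy =>
      ⟨hmem y (List.mem_cons_of_mem _ hy), (hmem y (List.mem_cons_of_mem _ hy)).1.1,
        fun e => hz5 (e ▸ hy), hcom z List.mem_cons_self y (List.mem_cons_of_mem _ hy)⟩
    have hcom5 : ∀ x ∈ l5, ∀ y ∈ l5, Commute x y := fun x hx y hy =>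
      hcom x (List.mem_cons_of_mem _ hx) y (List.mem_cons_of_mem _ hy)
    obtain ⟨π, he, xs, u, v, hu, hv, hpu, hpv, hvu, hval⟩ := h.frame_at ha hd hn hz
    have mp : p ∈ l5 := by simp [hl5]
    have mq : q ∈ l5 := by simp [hl5]
    obtain ⟨X, hX, hpX⟩ := xs.sp.surj p (hS p mp).2
    obtain ⟨Y, hY, hpY⟩ := xs.sp.surj q (hS q mq).2
    have hpq : p ≠ q := fun e => by simp [hl5, e] at hnd5
    have hs : ¬ SamePt X Y := fun e => hpq (hpX.symm.trans (((xs.sp.same hX hY).mpr e).trans hpY))
    have hXY : hb X Y = 0 := (xs.sp.comm hX hY).mp (by rw [hpX, hpY]; exact hcom5 p mp q mq)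
    obtain ⟨hX1, hX2⟩ := (hval X hX).mp (by rw [hpX]; exact hS p mp)
    obtain ⟨hY1, hY2⟩ := (hval Y hY).mp (by rw [hpY]; exact hS q mq)
    obtain ⟨w, hw0, hw1, hw⟩ := exists_omega hK
    have hw21 : w ^ 2 ≠ 1 := fun e => hw1 (sq_eq_one hK e)
    have hww : w ≠ w ^ 2 := fun e => hw1 (mul_left_cancel₀ hw0 (by linear_combination -e))
    set T3 := {y ∈ common D a d ∩ nb D z | (y ≠ p ∧ Commute p y) ∧ y ≠ q ∧ Commute q y}
    have h3 : T3.ncard = 3 :=
      (h.forty ha hd hn hz).common (hS p mp) (hS q mq) hpq.symm (hcom5 p mp q mq)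
    have hE : ∀ t : K, IsPt (X + t • Y) := fun t => isPt_line hK hX hY hXY hs t
    have hsame : ∀ {s t : K}, s ≠ t → xs.sp.pt (X + s • Y) ≠ xs.sp.pt (X + t • Y) := by
      intro s t hst e
      have := (xs.sp.same (hE s) (hE t)).mp e
      exact comb_not_same hX.1 hs (a := 1) (b := s) (a' := 1) (b' := t)
        (by simpa using Ne.symm hst) (by simpa using this)
    have hlineT : ∀ t : K, t ≠ 0 → xs.sp.pt (X + t • Y) ∈ T3 := by
      intro t ht
      refine ⟨(hval _ (hE t)).mpr ⟨?_, ?_⟩, ⟨fun e => ?_, ?_⟩, fun e => ?_, ?_⟩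
      · rw [hb_add_left, hb_smul_left, hX1, hY1, mul_zero, add_zero]
      · rw [hb_add_left, hb_smul_left, hX2, hY2, mul_zero, add_zero]
      · have := (xs.sp.same hX (hE t)).mp (hpX.trans e.symm)
        exact comb_not_same hX.1 hs (a := 1) (b := 0) (a' := 1) (b' := t)
          (by simpa using ht) (by simpa using this)
      · rw [← hpX]
        refine (xs.sp.comm hX (hE t)).mpr ((hb_eq_zero_comm hK).mp ?_)
        rw [hb_add_left, hb_smul_left, hX.2, (hb_eq_zero_comm hK).mp hXY, mul_zero, add_zero]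
      · have := (xs.sp.same hY (hE t)).mp (hpY.trans e.symm)
        exact comb_not_same hX.1 hs (a := 0) (b := 1) (a' := 1) (b' := t)
          (by simp) (by simpa using this)
      · rw [← hpY]
        refine (xs.sp.comm hY (hE t)).mpr ((hb_eq_zero_comm hK).mp ?_)
        rw [hb_add_left, hb_smul_left, hY.2, hXY, mul_zero, add_zero]
    set e1 := xs.sp.pt (X + Y)
    set e2 := xs.sp.pt (X + w • Y)
    set e3 := xs.sp.pt (X + w ^ 2 • Y)
    have one_smul_Y : X + (1 : K) • Y = X + Y := by rw [one_smul]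
    have ne12 : e1 ≠ e2 := by simpa [e1, e2, one_smul_Y] using hsame (s := 1) (t := w) (Ne.symm hw1)
    have ne13 : e1 ≠ e3 := by
      simpa [e1, e3, one_smul_Y] using hsame (s := 1) (t := w ^ 2) (Ne.symm hw21)
    have ne23 : e2 ≠ e3 := hsame hww
    have m1 : e1 ∈ T3 := by simpa [e1, one_smul_Y] using hlineT 1 one_ne_zero
    have m2 : e2 ∈ T3 := hlineT w hw0
    have m3 : e3 ∈ T3 := hlineT _ (pow_ne_zero _ hw0)
    have hline : {e1, e2, e3} = T3 := Set.eq_of_subset_of_ncard_le
      (by rintro y (rfl | rfl | rfl) <;> assumption)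
      (by rw [h3, Set.ncard_insert_of_notMem (by simp [ne12, ne13]), Set.ncard_pair ne23])
      (Set.toFinite _)
    obtain ⟨⟨-, n1, n2, n3⟩, ⟨k1, k2, k3⟩, ⟨n4, n5⟩, n6⟩ :
        (p ≠ q ∧ p ≠ r1 ∧ p ≠ r2 ∧ p ≠ r3) ∧ (q ≠ r1 ∧ q ≠ r2 ∧ q ≠ r3) ∧ (r1 ≠ r2 ∧ r1 ≠ r3) ∧
          r2 ≠ r3 := by
      simpa [hl5, and_assoc] using hnd5
    have hrest : ∀ y ∈ [r1, r2, r3], y ∈ T3 := fun y hy => by
      have hy5 : y ∈ l5 := by
        simp only [hl5, List.mem_cons, List.not_mem_nil, or_false] at hy ⊢; tauto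
      refine ⟨hS y hy5, ⟨?_, hcom5 p mp y hy5⟩, ?_, hcom5 q mq y hy5⟩
      · rintro rfl; simp only [List.mem_cons, List.not_mem_nil, or_false] at hy; tauto
      · rintro rfl; simp only [List.mem_cons, List.not_mem_nil, or_false] at hy; tauto
    have hrs : {r1, r2, r3} = T3 := Set.eq_of_subset_of_ncard_le
      (fun y hy => hrest y (by simpa using hy))
      (by rw [h3, Set.ncard_insert_of_notMem (by simp [n4, n5]), Set.ncard_pair n6])
      (Set.toFinite _)
    have hmemiff : ∀ y, y ∈ l5 ↔ y ∈ [p, q, e1, e2, e3] := fun y => by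
      have hy : y ∈ ({r1, r2, r3} : Set G) ↔ y ∈ ({e1, e2, e3} : Set G) := by rw [hrs, hline]
      simp only [Set.mem_insert_iff, Set.mem_singleton_iff] at hy
      simp only [hl5, List.mem_cons, List.not_mem_nil, or_false]
      tauto
    have hndL : [p, q, e1, e2, e3].Nodup := by
      simp [hpq, ne12, ne13, ne23, m1.2.1.1.symm, m2.2.1.1.symm, m3.2.1.1.symm, m1.2.2.1.symm,
        m2.2.2.1.symm, m3.2.2.1.symm]
    have hprod : l5.prod =
        xs.sp.pt X * xs.sp.pt Y * xs.sp.pt (X + Y) * xs.sp.pt (X + w • Y) *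
          xs.sp.pt (X + w ^ 2 • Y) := by
      rw [prod_congr_of_mem hnd5 hndL hcom5 hmemiff, hpX, hpY]
      simp only [List.prod_cons, List.prod_nil, mul_one, e1, e2, e3, mul_assoc]
    have ha' : Commute l5.prod a :=
      (Commute.list_prod_right _ _ fun y hy => (hS y hy).1.1.2.2).symm
    have hd' : Commute l5.prod d :=
      (Commute.list_prod_right _ _ fun y hy => (hS y hy).1.2.2.2).symm
    have hz' : Commute l5.prod z :=
      (Commute.list_prod_right _ _ fun y hy => (hS y hy).2.2.2).symm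
    have hk : ∀ y ∈ common D a d ∩ nb D z, Commute l5.prod y := fun y hy => by
      rw [hprod]; exact (xs.sp.line hX hY hXY hs hw y hy.2).symm
    rw [List.prod_cons]
    rcases h.triple_central ha hd hn hz ha' hd' hz' hk with e | e
    · exact absurd e (hi l5 hnd5 (by simp [hl5]) (by simp [hl5]) (fun y hy => (hS y hy).2.1) hcom5)
    · rw [e]; exact h.core.tt.sq z hz.1.1

/-- Seven pairwise commuting common neighbours in type M(23). -/
theorem prod_seven (hg : Geo23 D) (hM : M23Data D) {a d : G} (ha : a ∈ D) (hd : d ∈ D)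
    (hn : ¬ Commute a d) {l : List G} (hlen : l.length = 7) (hnd : l.Nodup)
    (hmem : ∀ y ∈ l, y ∈ common D a d) (hcom : ∀ x ∈ l, ∀ y ∈ l, Commute x y) : l.prod = 1 := by
  obtain ⟨z, l', rfl⟩ := List.exists_cons_of_ne_nil (l := l) (fun e => by simp [e] at hlen)
  obtain ⟨hz', hnd'⟩ := List.nodup_cons.mp hnd
  have hz := hmem z List.mem_cons_self
  have az := nb_symm ha hz.1
  have dz := nb_symm hd hz.2
  have hnb : ∀ y ∈ l', y ∈ nb D z := fun y hy =>
    ⟨(hmem y (List.mem_cons_of_mem _ hy)).1.1, fun e => hz' (e ▸ hy),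
      hcom z List.mem_cons_self y (List.mem_cons_of_mem _ hy)⟩
  have hcom' : ∀ x ∈ l', ∀ y ∈ l', Commute x y := fun x hx y hy =>
    hcom x (List.mem_cons_of_mem _ hx) y (List.mem_cons_of_mem _ hy)
  have hl : l'.length = 6 := by simpa using hlen
  obtain ⟨F, iF, iFF, hM2, -⟩ := hM.res z hz.1.1
  obtain ⟨K, iK, iKF, h22⟩ := hg.res z hz.1.1
  have himg := prod_six h22 hM2.ind (rimg_mem az) (rimg_mem dz)
    (fun q => hn ((hg.core.rimg_comm az dz).mp q)) (l := l'.map (rimg D z)) (by simpa using hl)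
    (Core.map_rimg_nodup hg.core hz.1.1 hnb hnd')
    (fun e he => by
      obtain ⟨y, hy, rfl⟩ := List.mem_map.mp he
      exact (Core.mem_common_rimg hg.core hz.1.1 az dz (hnb y hy)).mpr
        (hmem y (List.mem_cons_of_mem _ hy)))
    (Core.map_rimg_commute hg.core hnb hcom')
  rw [List.prod_cons, prod_next (fun g hg' e => hM.center_two hz.1.1 hg' e) hM.ind
    (fun e => by simp [e] at hl) hnd' hl.le hnb hcom' himg]
  exact hg.core.tt.sq z hz.1.1

/-- Eight pairwise commuting common neighbours in type M(24). -/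
theorem prod_eight (h : Data24 D) {a d : G} (ha : a ∈ D) (hd : d ∈ D) (hn : ¬ Commute a d)
    {l : List G} (hlen : l.length = 8) (hnd : l.Nodup) (hmem : ∀ y ∈ l, y ∈ common D a d)
    (hcom : ∀ x ∈ l, ∀ y ∈ l, Commute x y) : l.prod = 1 := by
  obtain ⟨z, l', rfl⟩ := List.exists_cons_of_ne_nil (l := l) (fun e => by simp [e] at hlen)
  obtain ⟨hz', hnd'⟩ := List.nodup_cons.mp hnd
  have hz := hmem z List.mem_cons_self
  have az := nb_symm ha hz.1
  have dz := nb_symm hd hz.2
  have hnb : ∀ y ∈ l', y ∈ nb D z := fun y hy =>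
    ⟨(hmem y (List.mem_cons_of_mem _ hy)).1.1, fun e => hz' (e ▸ hy),
      hcom z List.mem_cons_self y (List.mem_cons_of_mem _ hy)⟩
  have hcom' : ∀ x ∈ l', ∀ y ∈ l', Commute x y := fun x hx y hy =>
    hcom x (List.mem_cons_of_mem _ hx) y (List.mem_cons_of_mem _ hy)
  have hl : l'.length = 7 := by simpa using hlen
  have hr := h.res z hz.1.1
  have himg := prod_seven hr.1 hr.2 (rimg_mem az) (rimg_mem dz)
    (fun q => hn ((h.core.rimg_comm az dz).mp q)) (l := l'.map (rimg D z)) (by simpa using hl)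
    (Core.map_rimg_nodup h.core hz.1.1 hnb hnd')
    (fun e he => by
      obtain ⟨y, hy, rfl⟩ := List.mem_map.mp he
      exact (Core.mem_common_rimg h.core hz.1.1 az dz (hnb y hy)).mpr
        (hmem y (List.mem_cons_of_mem _ hy)))
    (Core.map_rimg_commute h.core hnb hcom')
  rw [List.prod_cons, prod_next (fun g hg' e => h.center_two hz.1.1 hg' e) h.ind
    (fun e => by simp [e] at hl) hnd' hl.le hnb hcom' himg]
  exact h.core.tt.sq z hz.1.1

/-- A relation of length eight in type M(23) splits into two of length seven. -/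
theorem split_eight (h : M23Data D) {l : List G} (hlen : l.length = 8) (hnd : l.Nodup)
    (hmem : ∀ y ∈ l, y ∈ D) (hcom : ∀ x ∈ l, ∀ y ∈ l, Commute x y) (hprod : l.prod = 1) :
    ∃ A B C : List G, A ++ B = l ∧ A.length = 4 ∧ B.length = 4 ∧ C.length = 3 ∧
      (A ++ C).Nodup ∧ (B ++ C).Nodup ∧ (∀ y ∈ C, y ∈ D) ∧
      (∀ x ∈ A ++ B ++ C, ∀ y ∈ A ++ B ++ C, Commute x y) ∧
      (A ++ C).prod = 1 ∧ (B ++ C).prod = 1 := by
  classical
  match l, hlen with
  | [u1, u2, u3, u4, u5, u6, u7, u8], _ =>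
    set A := [u1, u2, u3, u4] with hA
    set B := [u5, u6, u7, u8] with hB
    have hAB : [u1, u2, u3, u4, u5, u6, u7, u8] = A ++ B := rfl
    rw [hAB] at hnd hmem hcom hprod
    obtain ⟨hndA, hndB, hdisj⟩ := List.nodup_append.mp hnd
    have uD : u1 ∈ D := hmem u1 (by simp [hA])
    have hu1 : ∀ y ∈ A ++ B, y ≠ u1 → y ∈ nb D u1 := fun y hy hne =>
      ⟨hmem y hy, hne, hcom u1 (by simp [hA]) y hy⟩
    obtain ⟨⟨n12, n13, n14⟩, ⟨n23, n24⟩, n34⟩ :
        (u1 ≠ u2 ∧ u1 ≠ u3 ∧ u1 ≠ u4) ∧ (u2 ≠ u3 ∧ u2 ≠ u4) ∧ u3 ≠ u4 := by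
      simpa [hA, and_assoc] using hndA
    have m2 : u2 ∈ nb D u1 := hu1 u2 (by simp [hA]) n12.symm
    have m3 : u3 ∈ nb D u1 := hu1 u3 (by simp [hA]) n13.symm
    have m4 : u4 ∈ nb D u1 := hu1 u4 (by simp [hA]) n14.symm
    obtain ⟨F, iF, iFF, hM, -⟩ := h.res u1 uD
    obtain ⟨sp⟩ := hM.spaces _ (rimg_mem m2)
    have img : ∀ {y}, y ∈ nb D u1 → y ≠ u2 → Commute u2 y →
        rimg D u1 y ∈ nb (resSet D u1) (rimg D u1 u2) := fun {y} hy hne hc =>
      h.core.rimg_nb uD m2 ⟨hy, hy.1, hne, hc⟩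
    have i3 := img m3 n23.symm (hcom u2 (by simp [hA]) u3 (by simp [hA]))
    have i4 := img m4 n24.symm (hcom u2 (by simp [hA]) u4 (by simp [hA]))
    obtain ⟨X, hX, hpX⟩ := sp.surj _ i3
    obtain ⟨Y, hY, hpY⟩ := sp.surj _ i4
    have hs : ¬ SamePt X Y := fun e => n34 ((h.core.rimg_inj uD m3 m4).mp
      (hpX.symm.trans (((sp.same hX hY).mpr e).trans hpY)))
    have hXY : hb X Y = 0 := (sp.comm hX hY).mp (by
      rw [hpX, hpY]
      exact (h.core.rimg_comm m3 m4).mpr (hcom u3 (by simp [hA]) u4 (by simp [hA])))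
    obtain ⟨w, hw0, hw1, hw⟩ := exists_omega hM.hF
    have hw21 : w ^ 2 ≠ 1 := fun e => hw1 (sq_eq_one hM.hF e)
    have hww : w ≠ w ^ 2 := fun e => hw1 (mul_left_cancel₀ hw0 (by linear_combination -e))
    have hE : ∀ t : F, IsPt (X + t • Y) := fun t => isPt_line hM.hF hX hY hXY hs t
    have hpick : ∀ t : F, ∃ y, y ∈ nb D u1 ∧ rimg D u1 y = sp.pt (X + t • Y) := fun t =>
      rimg_surj (sp.mem (hE t)).1
    obtain ⟨y1, hy1, ey1⟩ := hpick 1
    obtain ⟨y2, hy2, ey2⟩ := hpick w
    obtain ⟨y3, hy3, ey3⟩ := hpick (w ^ 2)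
    set C := [y1, y2, y3] with hC
    have hCp : ∀ y ∈ C, ∃ t : F, t ≠ 0 ∧ y ∈ nb D u1 ∧ rimg D u1 y = sp.pt (X + t • Y) := by
      intro y hy
      simp only [hC, List.mem_cons, List.not_mem_nil, or_false] at hy
      rcases hy with rfl | rfl | rfl
      exacts [⟨1, one_ne_zero, hy1, ey1⟩, ⟨w, hw0, hy2, ey2⟩, ⟨_, pow_ne_zero _ hw0, hy3, ey3⟩]
    have hne2 : ∀ y ∈ C, y ≠ u2 := fun y hy e => by
      obtain ⟨t, -, -, et⟩ := hCp y hy
      exact (sp.mem (hE t)).2.1 (by rw [← et, e])
    have hC34 : ∀ y ∈ C, y ≠ u3 ∧ y ≠ u4 := fun y hy => by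
      obtain ⟨t, ht, -, et⟩ := hCp y hy
      constructor
      · rintro rfl
        exact comb_not_same hX.1 hs (a := 1) (b := 0) (a' := 1) (b' := t) (by simpa using ht)
          (by simpa using (sp.same hX (hE t)).mp (hpX.trans et))
      · rintro rfl
        exact comb_not_same hX.1 hs (a := 0) (b := 1) (a' := 1) (b' := t) (by simp)
          (by simpa using (sp.same hY (hE t)).mp (hpY.trans et))
    have hsame : ∀ {s t : F}, s ≠ t → sp.pt (X + s • Y) ≠ sp.pt (X + t • Y) := fun {s t} hst e =>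
      comb_not_same hX.1 hs (a := 1) (b := s) (a' := 1) (b' := t) (by simpa using Ne.symm hst)
        (by simpa using (sp.same (hE s) (hE t)).mp e)
    have q12 : y1 ≠ y2 := fun e => hsame (Ne.symm hw1) (by rw [← ey1, e, ey2])
    have q13 : y1 ≠ y3 := fun e => hsame (Ne.symm hw21) (by rw [← ey1, e, ey3])
    have q23 : y2 ≠ y3 := fun e => hsame hww (by rw [← ey2, e, ey3])
    have hCD : ∀ y ∈ C, y ∈ D := fun y hy => (hCp y hy).choose_spec.2.1.1
    -- a member of the line commutes with the eight members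
    have hCu : ∀ y ∈ C, ∀ x ∈ A ++ B, Commute y x := by
      intro y hy x hx
      obtain ⟨t, -, my, et⟩ := hCp y hy
      by_cases e1 : x = u1
      · exact e1 ▸ my.2.2.symm
      have mx := hu1 x hx e1
      refine (h.core.rimg_comm my mx).mp ?_
      by_cases e2 : x = u2
      · subst e2
        rw [et]
        exact (sp.mem (hE t)).2.2.symm
      obtain ⟨Z, hZ, hpZ⟩ := sp.surj _ (img mx e2 (hcom u2 (by simp [hA]) x hx))
      rw [et, ← hpZ, sp.comm (hE t) hZ, hb_add_left, hb_smul_left]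
      have hx3 : hb X Z = 0 := (sp.comm hX hZ).mp (by
        rw [hpX, hpZ]; exact (h.core.rimg_comm m3 mx).mpr (hcom u3 (by simp [hA]) x hx))
      have hx4 : hb Y Z = 0 := (sp.comm hY hZ).mp (by
        rw [hpY, hpZ]; exact (h.core.rimg_comm m4 mx).mpr (hcom u4 (by simp [hA]) x hx))
      rw [hx3, hx4, mul_zero, add_zero]
    have hCC : ∀ y ∈ C, ∀ y' ∈ C, Commute y y' := by
      intro y hy y' hy'
      obtain ⟨t, -, my, et⟩ := hCp y hy
      obtain ⟨t', -, my', et'⟩ := hCp y' hy'
      refine (h.core.rimg_comm my my').mp ?_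
      rw [et, et', sp.comm (hE t) (hE t'), hb_add_left, hb_smul_left, hb_add_right hM.hF,
        hb_add_right hM.hF, hb_smul_right, hb_smul_right, hX.2, hY.2, hXY,
        (hb_eq_zero_comm hM.hF).mp hXY]
      ring
    have hcomABC : ∀ x ∈ A ++ B ++ C, ∀ y ∈ A ++ B ++ C, Commute x y := by
      intro x hx y hy
      rcases List.mem_append.mp hx with hx | hx <;> rcases List.mem_append.mp hy with hy | hy
      exacts [hcom x hx y hy, (hCu y hy x hx).symm, hCu x hx y hy, hCC x hx y hy]
    have hcomAC : ∀ x ∈ A ++ C, ∀ y ∈ A ++ C, Commute x y := fun x hx y hy => hcomABC x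
      (by simp only [List.mem_append] at hx ⊢; tauto) y (by simp only [List.mem_append] at hy ⊢; tauto)
    have hne1 : ∀ y ∈ C, y ≠ u1 := fun y hy => (hCp y hy).choose_spec.2.1.2.1
    have hndAC : (A ++ C).Nodup := by
      refine List.nodup_append.mpr ⟨hndA, by simp [hC, q12, q13, q23], fun x hx y hy e => ?_⟩
      subst e
      simp only [hA, List.mem_cons, List.not_mem_nil, or_false] at hx
      rcases hx with rfl | rfl | rfl | rfl
      exacts [hne1 _ hy rfl, hne2 _ hy rfl, (hC34 _ hy).1 rfl, (hC34 _ hy).2 rfl]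
    -- the six neighbours of the first member
    set L := [u2, u3, u4, y1, y2, y3] with hL
    have hndL : L.Nodup := (List.nodup_cons.mp (show (u1 :: L).Nodup from hndAC)).2
    have hLnb : ∀ x ∈ L, x ∈ nb D u1 := by
      intro x hx
      simp only [hL, List.mem_cons, List.not_mem_nil, or_false] at hx
      rcases hx with rfl | rfl | rfl | rfl | rfl | rfl <;> assumption
    have hLcom : ∀ x ∈ L, ∀ y ∈ L, Commute x y := fun x hx y hy => hcomAC x
      (List.mem_cons_of_mem u1 (show x ∈ L from hx)) y (List.mem_cons_of_mem u1 (show y ∈ L from hy))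
    have hl5 : rimg D u1 u3 * rimg D u1 u4 * rimg D u1 y1 * rimg D u1 y2 * rimg D u1 y3 =
        rimg D u1 u2 := by
      rw [ey1, ey2, ey3, ← hpX, ← hpY, one_smul]
      set P := sp.pt X * sp.pt Y * sp.pt (X + Y) * sp.pt (X + w • Y) * sp.pt (X + w ^ 2 • Y) with hP
      have hc2 : ∀ {t}, t ∈ nb (resSet D u1) (rimg D u1 u2) → Commute t (rimg D u1 u2) :=
        fun ht => ht.2.2.symm
      have hPc : Commute P (rimg D u1 u2) := by
        have h5 := sp.mem (show IsPt (X + (1 : F) • Y) from hE 1)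
        rw [one_smul] at h5
        exact ((((hc2 (sp.mem hX)).mul_left (hc2 (sp.mem hY))).mul_left (hc2 h5)).mul_left
          (hc2 (sp.mem (hE w)))).mul_left (hc2 (sp.mem (hE (w ^ 2))))
      refine (hM.kernel_nb (rimg_mem m2) hPc
        fun v hv => (sp.line hX hY hXY hs hw v hv).symm).resolve_left fun e => ?_
      refine hM.ind ((L.map (rimg D u1)).tail) ((Core.map_rimg_nodup h.core uD hLnb hndL).tail)
        (by simp [hL]) (by simp [hL]) ?_ ?_ ?_
      · intro x hx
        obtain ⟨x, hx', rfl⟩ := List.mem_map.mp (List.mem_of_mem_tail hx)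
        exact rimg_mem (hLnb x hx')
      · intro x hx y hy
        exact Core.map_rimg_commute h.core hLnb hLcom x (List.mem_of_mem_tail hx) y
          (List.mem_of_mem_tail hy)
      · rw [← e, hP, hpX, hpY]
        simp [hL, ey1, ey2, ey3, mul_assoc, one_smul]
    have hL1 : L.prod = u1 := by
      refine prod_next (fun g hg e => h.center_two uD hg e) h.ind (by simp [hL]) hndL
        (by simp [hL]) hLnb hLcom ?_
      simp only [hL, List.map_cons, List.map_nil, List.prod_cons, List.prod_nil, mul_one]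
      calc _ = rimg D u1 u2 *
            (rimg D u1 u3 * rimg D u1 u4 * rimg D u1 y1 * rimg D u1 y2 * rimg D u1 y3) := by group
        _ = 1 := by rw [hl5]; exact hM.core.tt.sq _ (rimg_mem m2)
    have hAC : (A ++ C).prod = 1 := by
      show (u1 :: L).prod = 1
      rw [List.prod_cons, hL1]
      exact h.core.tt.sq u1 uD
    have hBC : B.prod = C.prod :=
      mul_left_cancel (a := A.prod) (by rw [← List.prod_append, ← List.prod_append, hprod, hAC])
    have hndBC : (B ++ C).Nodup := by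
      refine List.nodup_append.mpr ⟨hndB, by simp [hC, q12, q13, q23], fun x hx y hy e => ?_⟩
      subst e
      have hsub : ∀ z ∈ C.erase x ++ B.erase x, z ∈ A ++ B ++ C := fun z hz => by
        rcases List.mem_append.mp hz with hz | hz
        · exact List.mem_append_right _ (List.mem_of_mem_erase hz)
        · exact List.mem_append_left _ (List.mem_append_right _ (List.mem_of_mem_erase hz))
      have := length_eq_of_prod_eq h.core.tt h.ind _ (C.erase x) (B.erase x) rfl
        (by rw [List.length_erase_of_mem hy, List.length_erase_of_mem hx]; simp [hC, hB])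
        ((show C.Nodup by simp [hC, q12, q13, q23]).erase x) (hndB.erase x)
        (fun z hz => by
          rcases List.mem_append.mp hz with hz | hz
          · exact hCD z (List.mem_of_mem_erase hz)
          · exact hmem z (List.mem_append_right _ (List.mem_of_mem_erase hz)))
        (fun z hz z' hz' => hcomABC z (hsub z hz) z' (hsub z' hz'))
        (by
          rw [prod_eq_cons_erase (fun a ha b hb => hcom a (List.mem_append_right _ ha) b
              (List.mem_append_right _ hb)) hx, prod_eq_cons_erase hCC hy] at hBC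
          exact (mul_left_cancel hBC).symm)
      rw [List.length_erase_of_mem hy, List.length_erase_of_mem hx] at this
      simp [hC, hB] at this
    refine ⟨A, B, C, hAB.symm, rfl, rfl, rfl, hndAC, hndBC, hCD, hcomABC, hAC, ?_⟩
    rw [List.prod_append, hBC]
    exact prod_sq_one h.core.tt C hCD hCC

end Cfsg.Agent.H41.FischerTop
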