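import Cfsg.Agent.H41.FischerTop.Sect
import Cfsg.Agent.H97.Refl3.Class
import Cfsg.Agent.Orthogonal.O83.Refl
import Cfsg.Agent.Orthogonal.Count
import Cfsg.Agent.Orthogonal.Frame

/-!
The class of reflections of the eight-dimensional orthogonal space of plus type over the field with
three elements: recognition by eight pairwise commuting members, number of members, transitivity on
pairs that do not commute.
-/

set_option autoImplicit false
set_option linter.unusedSectionVars false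

namespace Cfsg.Agent.H41.FischerTop

open QuadraticMap Module
open H76.LocallyS3 (cj commute_cj_iff)
open H80.TTQuad (cj_eq_of_commute commute_of_cj_eq)
open H7Fischer (IsoTo IsOrthThree refl3)
open Orthogonal.O83.Refl (V8 Q8 W8 hQ8 hn8)
open Cfsg.Agent.Orthogonal (rO rO_app qmap_smul polar_self' polar_smul_right' Nondeg)

universe u

local notation "P8" => Orthogonal.O83.Refl.pt

/-- The class of the reflections in the vectors of norm one. -/
def D8 : Set W8 := P8 '' {v | Q8 v = 1}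

/-- Two vectors of two hyperbolic planes, four times. -/
def base8 : Fin 8 → V8 :=
  ![Sum.elim ![1, 0, 0, 0] ![1, 0, 0, 0], Sum.elim ![0, 1, 0, 0] ![0, 1, 0, 0],
    Sum.elim ![1, 1, 0, 0] ![-1, -1, 0, 0], Sum.elim ![1, -1, 0, 0] ![-1, 1, 0, 0],
    Sum.elim ![0, 0, 1, 0] ![0, 0, 1, 0], Sum.elim ![0, 0, 0, 1] ![0, 0, 0, 1],
    Sum.elim ![0, 0, 1, 1] ![0, 0, -1, -1], Sum.elim ![0, 0, 1, -1] ![0, 0, -1, 1]]

theorem base8_val : ∀ i, Q8 (base8 i) = 1 := by decide +kernel

theorem base8_ortho : ∀ i j, i ≠ j → polar Q8 (base8 i) (base8 j) = 0 := by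
  unfold QuadraticMap.polar
  decide +kernel

/-- Orthogonal non-isotropic vectors are independent. -/
theorem linearIndependent_of_ortho {V : Type*} [AddCommGroup V] [Module (ZMod 3) V]
    {Q : QuadraticForm (ZMod 3) V} {ι : Type*} [Fintype ι] [DecidableEq ι] {v : ι → V}
    {c : ZMod 3} (hc : c ≠ 0) (hv : ∀ i, Q (v i) = c)
    (ho : ∀ i j, i ≠ j → polar Q (v i) (v j) = 0) : LinearIndependent (ZMod 3) v := by
  refine Fintype.linearIndependent_iff.2 fun g hg i => ?_
  have h := congrArg (fun x => QuadraticMap.polarBilin Q (v i) x) hg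
  simp only [map_sum, map_smul, map_zero, QuadraticMap.polarBilin_apply_apply, smul_eq_mul] at h
  rw [Finset.sum_eq_single i (fun j _ hj => by rw [ho i j (Ne.symm hj), mul_zero])
    (fun h => absurd (Finset.mem_univ i) h), polar_self', hv] at h
  exact (mul_eq_zero.1 h).resolve_right (mul_ne_zero (by decide) hc)

/-- A form in eight variables with an orthogonal basis of vectors of norm `c` is similar to the
hyperbolic one. -/
theorem exists_similar {Q : QuadraticForm (ZMod 3) (Fin 8 → ZMod 3)} {c : ZMod 3} (hc : c ≠ 0)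
    {v : Fin 8 → Fin 8 → ZMod 3} (hv : ∀ i, Q (v i) = c)
    (ho : ∀ i j, i ≠ j → polar Q (v i) (v j) = 0) :
    ∃ e : (Fin 8 → ZMod 3) ≃ₗ[ZMod 3] V8, ∀ x, Q8 (e x) = c * Q x := by
  have hcc : c * c = 1 := (show ∀ d : ZMod 3, d ≠ 0 → d * d = 1 by decide) c hc
  let b := basisOfLinearIndependentOfCardEqFinrank (linearIndependent_of_ortho hc hv ho)
    (by rw [Module.finrank_fin_fun, Fintype.card_fin])
  let b' := basisOfLinearIndependentOfCardEqFinrank
    (linearIndependent_of_ortho (one_ne_zero : (1 : ZMod 3) ≠ 0) base8_val base8_ortho)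
    (by rw [Orthogonal.O83.Refl.rank8, Fintype.card_fin])
  obtain ⟨e, -, he⟩ := Orthogonal.equiv_of_bases b b' (Q := c • Q) (Q' := Q8)
    (fun i => by simp [b, b', base8_val, hv, hcc])
    (fun i j hij => by
      have h := ho i j hij
      simp only [QuadraticMap.polar, b, b', coe_basisOfLinearIndependentOfCardEqFinrank,
        smul_apply, smul_eq_mul] at h ⊢
      rw [← mul_sub, ← mul_sub, h, mul_zero]
      exact base8_ortho i j hij)
  exact ⟨e, fun x => by rw [he]; simp⟩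

variable {G : Type u} [Group G] [Finite G] {E : Set G}

/-- An orthogonal class in eight dimensions with eight pairwise commuting members is the class of
plus type. -/
theorem isoTo_D8 {μ c : ZMod 3} (h : IsOrthThree E 8 μ c) {l : Fin 8 → G}
    (hl : Function.Injective l) (hlE : ∀ i, l i ∈ E) (hlc : ∀ i j, Commute (l i) (l j)) :
    IsoTo E D8 := by
  classical
  obtain ⟨Q, hQ, -, hc, iso, hiso⟩ := h
  have hQ' : Nondeg Q := Orthogonal.nondeg_of_polarBilin hQ
  have hn : 5 ≤ 8 := by norm_num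
  refine IsoTo.trans ⟨iso, hiso⟩ ?_
  choose v hv hpt using fun i => H97.Refl3.exists_pt (hiso ▸ Set.mem_image_of_mem iso (hlE i))
  obtain ⟨e, he⟩ := exists_similar hc hv fun i j hij => by
    have hc' : Commute (H97.Refl3.pt (hv i)) (H97.Refl3.pt (hv j)) := by
      rw [hpt, hpt]; exact (hlc i j).map iso
    refine ((H97.Refl3.commute_pt hQ' hc hn (hv i) (hv j)).1 hc').resolve_right fun q => ?_
    exact hij (hl (iso.injective (by
      rw [← hpt, ← hpt]; exact (H97.Refl3.pt_eq_iff hQ' hc hn (hv i) (hv j)).2 q)))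
  have hcc : c * c = 1 := (show ∀ d : ZMod 3, d ≠ 0 → d * d = 1 by decide) c hc
  have hci : c⁻¹ = c := inv_eq_of_mul_eq_one_right hcc
  have h1 : ∀ u, Q u = c → Q8 (e u) = 1 := fun u hu => by rw [he, hu, hcc]
  choose w hw hwpt using fun x : ↥(refl3 Q c) => H97.Refl3.exists_pt x.2
  let φ : ↥(refl3 Q c) → ↥D8 := fun x => ⟨P8 (e (w x)), _, h1 _ (hw x), rfl⟩
  have hφ : ∀ (u : Fin 8 → ZMod 3) (hu : Q u = c) (x : ↥(refl3 Q c)),
      (x : _) = H97.Refl3.pt hu → (φ x : W8) = P8 (e u) := by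
    intro u hu x hx
    show P8 (e (w x)) = _
    rcases (H97.Refl3.pt_eq_iff hQ' hc hn hu (hw x)).1 (by rw [← hx, hwpt]) with q | q
    · rw [q]
    · rw [q, map_neg, Orthogonal.O83.Refl.pt_neg (h1 u hu)]
  have H := H97.Refl3.cls_refl3 hQ' hc hn
  refine H7Fischer.isoTo_of_equivariant H.cl.2.2 Orthogonal.O83.Refl.closure_pt
    (fun g hg => H.eq_one_of_fix hg) (fun g hg => ?_) (fun a ha => H.sq ha) ?_
    (fun a ha b hb => H.mem_cj a hb) (Equiv.ofBijective φ ⟨?_, ?_⟩) ?_
  · refine Orthogonal.O83.Refl.eq_one_of_commute g fun z hz => ?_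
    exact commute_of_cj_eq (hg _ ⟨z, hz, rfl⟩)
  · rintro _ ⟨z, -, rfl⟩
    exact Orthogonal.O83.Refl.pt_sq z
  · intro x y q
    refine Subtype.ext ?_
    rw [← hwpt x, ← hwpt y, H97.Refl3.pt_eq_iff hQ' hc hn (hw x) (hw y)]
    rcases Orthogonal.O83.Refl.pt_inj (h1 _ (hw x)) (h1 _ (hw y)) (congrArg Subtype.val q)
      with q | q
    · exact Or.inl (e.injective q)
    · exact Or.inr (e.injective (by rw [q, map_neg]))
  · rintro ⟨_, z, hz, rfl⟩
    have hu : Q (e.symm z) = c := by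
      have := he (e.symm z)
      rw [e.apply_symm_apply, show Q8 z = 1 from hz] at this
      calc Q (e.symm z) = c * c * Q (e.symm z) := by rw [hcc, one_mul]
        _ = c := by rw [mul_assoc, ← this, mul_one]
    refine ⟨⟨_, H97.Refl3.pt_mem hu⟩, Subtype.ext ?_⟩
    rw [hφ _ hu ⟨_, H97.Refl3.pt_mem hu⟩ rfl, e.apply_symm_apply]
  · intro a b
    show (φ ⟨cj (a : _) (b : _), _⟩ : W8) = cj (φ a : W8) (φ b : W8)
    obtain ⟨hr, er⟩ := H97.Refl3.cj_pt hQ' hc (hw a) (hw b)
    rw [hφ _ hr _ (by simp only; rw [← hwpt a, ← hwpt b]; exact er),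
      hφ _ (hw a) a (hwpt a).symm, hφ _ (hw b) b (hwpt b).symm, cj,
      Orthogonal.O83.Refl.pt_inv, Orthogonal.O83.Refl.pt_conj (h1 _ (hw a)) (h1 _ (hw b))]
    refine congrArg _ ?_
    rw [rO_app, rO_app, map_sub, map_smul, hw a, h1 _ (hw a), inv_one, one_mul, hci]
    refine congrArg (fun t : ZMod 3 => e (w b) - t • e (w a)) ?_
    simp only [QuadraticMap.polar, ← map_add, he, mul_sub]

/-- The number of vectors of norm one. -/
theorem card_norm_one : Nat.card {v : V8 // Q8 v = 1} = 2160 := by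
  have hF := Orthogonal.formPlus_frame (ZMod 3) 4
  obtain ⟨h, hV⟩ := Orthogonal.sphereCard_frame hF (1 : ZMod 3)
  rw [Orthogonal.sphereCard_top, Orthogonal.formPlus_kernel] at h
  rw [show Orthogonal.sphereCard Q8 (⊥ : Submodule (ZMod 3) V8) (1 : ZMod 3) = 0 by
    rw [Orthogonal.sphereCard]
    refine Nat.card_eq_zero.2 (Or.inl ⟨fun x => ?_⟩)
    have hx := x.2
    rw [(Submodule.eq_bot_iff _).1 rfl _ x.1.2] at hx
    simp at hx] at h
  clear hV
  simp only [Nat.card_zmod, mul_zero, add_zero] at h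
  rw [show Nat.card (↥(⊥ : Submodule (ZMod 3) V8)) = 1 from Nat.card_unique,
    show Nat.card V8 = 6561 by rw [Nat.card_fun, Nat.card_sum]; simp] at h
  exact Nat.eq_of_mul_eq_mul_left (show 0 < 3 by norm_num)
    (Nat.add_right_cancel (h.trans (show 6561 = 3 * 2160 + 3 ^ 4 * 1 by norm_num)))

theorem ncard_D8 : D8.ncard = 1080 := by
  classical
  have hc : (Finset.univ.filter fun v : V8 => Q8 v = 1).card = 2160 := by
    rw [← card_norm_one, Nat.card_eq_fintype_card, Fintype.card_subtype]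
  rw [D8, show {v : V8 | Q8 v = 1} = ↑(Finset.univ.filter fun v : V8 => Q8 v = 1) by ext; simp,
    ← Finset.coe_image, Set.ncard_coe_finset]
  set s := Finset.univ.filter fun v : V8 => Q8 v = 1
  have h := Finset.card_eq_sum_card_image P8 s
  rw [Finset.sum_const_nat (m := 2) fun b hb => ?_, hc] at h
  · omega
  obtain ⟨v, hv, rfl⟩ := Finset.mem_image.1 hb
  have hv1 : Q8 v = 1 := (Finset.mem_filter.1 hv).2
  rw [show s.filter (fun a => P8 a = P8 v) = {v, -v} from ?_]
  · exact Finset.card_pair fun q => by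
      have : (2 : ZMod 3) • v = 0 := by rw [two_smul]; nth_rewrite 2 [q]; exact add_neg_cancel v
      rw [smul_eq_zero] at this
      rw [this.resolve_left (by decide), QuadraticMap.map_zero] at hv1
      exact zero_ne_one hv1
  · ext a
    simp only [Finset.mem_filter, Finset.mem_insert, Finset.mem_singleton, s, Finset.mem_univ,
      true_and]
    constructor
    · rintro ⟨ha, hav⟩
      exact Orthogonal.O83.Refl.pt_inj hv1 ha hav.symm
    · rintro (rfl | rfl)
      · exact ⟨hv1, rfl⟩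
      · exact ⟨by rw [QuadraticMap.map_neg]; exact hv1, Orthogonal.O83.Refl.pt_neg hv1⟩

theorem ncard_eq (h : IsoTo E D8) : E.ncard = 1080 := by
  obtain ⟨e, he⟩ := h
  rw [← ncard_D8, ← he, Set.ncard_image_of_injective _ e.injective]

/-- Non-commuting members are not orthogonal. -/
theorem polar_of_not_commute {u w : V8} (hu : Q8 u = 1) (hw : Q8 w = 1)
    (h : ¬ Commute (P8 u) (P8 w)) : polar Q8 u w ≠ 0 ∧ (w ≠ u ∧ w ≠ -u) := by
  refine ⟨fun q => h ?_, fun q => h (q ▸ Commute.refl _),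
    fun q => h (by rw [q, Orthogonal.O83.Refl.pt_neg hu])⟩
  rw [Orthogonal.O83.Refl.pt_of hu, Orthogonal.O83.Refl.commute_pt_iff _ hw]
  exact Or.inl (Orthogonal.rO_fix q)

/-- Two members that do not commute have a common neighbour. -/
theorem exists_perp8 (h : IsoTo E D8) {a b : G} (ha : a ∈ E) (hb : b ∈ E) :
    ∃ z ∈ E, z ≠ a ∧ z ≠ b ∧ Commute a z ∧ Commute b z := by
  obtain ⟨e, he⟩ := h
  obtain ⟨u, hu, eu⟩ : e a ∈ D8 := he ▸ Set.mem_image_of_mem e ha
  obtain ⟨w, hw, ew⟩ : e b ∈ D8 := he ▸ Set.mem_image_of_mem e hb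
  have hu' : Q8 u = 1 := hu
  obtain ⟨y, hy1, hy2, hy⟩ := Orthogonal.exists_perp_pair_value hQ8 Orthogonal.O83.Refl.two_ne hn8
    (u := u) (by rw [hu']; exact one_ne_zero) w (1 : ZMod 3)
  obtain ⟨z, hz, ez⟩ : P8 y ∈ e '' E := he.symm ▸ ⟨y, hy, rfl⟩
  have hcom : ∀ {t : V8}, Q8 t = 1 → polar Q8 t y = 0 → Commute (P8 t) (P8 y) ∧ P8 y ≠ P8 t := by
    intro t ht hty
    refine ⟨?_, fun q => ?_⟩
    · rw [Orthogonal.O83.Refl.pt_of ht, Orthogonal.O83.Refl.commute_pt_iff _ hy]
      exact Or.inl (Orthogonal.rO_fix hty)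
    · rcases Orthogonal.O83.Refl.pt_inj ht hy q.symm with r | r <;>
        · rw [r] at hty
          simp only [polar_neg_right, polar_self', ht, mul_one, neg_eq_zero] at hty
          exact absurd hty (by decide)
  obtain ⟨c1, n1⟩ := hcom hu' hy1
  obtain ⟨c2, n2⟩ := hcom hw hy2
  rw [eu, ← ez] at c1 n1
  rw [ew, ← ez] at c2 n2
  refine ⟨z, hz, fun q => n1 (by rw [q]), fun q => n2 (by rw [q]), ?_, ?_⟩
  · simpa using c1.map e.symm
  · simpa using c2.map e.symm

/-- The group is transitive on the pairs of members that do not commute. -/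
theorem pair_trans (h : IsoTo E D8) {a b a' b' : G} (ha : a ∈ E) (hb : b ∈ E) (ha' : a' ∈ E)
    (hb' : b' ∈ E) (hn : ¬ Commute a b) (hn' : ¬ Commute a' b') :
    ∃ g : G, cj g a = a' ∧ cj g b = b' := by
  obtain ⟨e, he⟩ := h
  have hmem : ∀ {x}, x ∈ E → ∃ v, Q8 v = 1 ∧ P8 v = e x := fun hx => by
    obtain ⟨v, hv, ev⟩ : e _ ∈ D8 := he ▸ Set.mem_image_of_mem e hx
    exact ⟨v, hv, ev⟩
  obtain ⟨u, hu, eu⟩ := hmem ha
  obtain ⟨w, hw, ew⟩ := hmem hb
  obtain ⟨u', hu', eu'⟩ := hmem ha'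
  obtain ⟨w', hw', ew'⟩ := hmem hb'
  have back : ∀ {p q : G}, Commute (e p) (e q) → Commute p q := fun c => by
    simpa using c.map e.symm
  obtain ⟨hp, hne⟩ := polar_of_not_commute hu hw (fun c => hn (back (eu ▸ ew ▸ c)))
  obtain ⟨hp', hne'⟩ := polar_of_not_commute hu' hw' (fun c => hn' (back (eu' ▸ ew' ▸ c)))
  obtain ⟨w'', hw'', ew'', hB, hne''⟩ : ∃ w'', Q8 w'' = 1 ∧ P8 w'' = e b' ∧
      polar Q8 u w = polar Q8 u' w'' ∧ (w'' ≠ u' ∧ w'' ≠ -u') := by
    rcases (show ∀ p p' : ZMod 3, p ≠ 0 → p' ≠ 0 → p = p' ∨ p = -p' by decide) _ _ hp hp' with q | q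
    · exact ⟨w', hw', ew', q, hne'⟩
    · refine ⟨-w', by rw [QuadraticMap.map_neg]; exact hw',
        (Orthogonal.O83.Refl.pt_neg hw').trans ew', by rw [polar_neg_right]; exact q,
        fun r => hne'.2 (neg_eq_iff_eq_neg.1 r), fun r => hne'.1 (neg_injective r)⟩
  obtain ⟨r, hr, r1, r2⟩ := Orthogonal.exists_classGroup_map_pair hQ8 Orthogonal.O83.Refl.two_ne
    Orthogonal.O83.Refl.values one_ne_zero hn8 hu hw hu' hw'' hB hne hne''
  refine ⟨e.symm (QuotientGroup.mk ⟨r, hr⟩), e.injective ?_, e.injective ?_⟩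
  · rw [cj, map_mul, map_mul, map_inv, e.apply_symm_apply, ← eu, ← eu',
      Orthogonal.O83.Refl.mk_conj_pt _ hu, r1]
  · rw [cj, map_mul, map_mul, map_inv, e.apply_symm_apply, ← ew, ← ew'',
      Orthogonal.O83.Refl.mk_conj_pt _ hw, r2]

end Cfsg.Agent.H41.FischerTop
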