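import Cfsg.Agent.H61.M24.Common
import Cfsg.Agent.H93.Common23
import Cfsg.Agent.H93.Common24

/-!
Groups of types M(22) and M(23): a neighbour of one member of a pair that is not a common neighbour
meets 63 common neighbours; a pair is determined by the neighbours of one of its common neighbours.
-/

set_option autoImplicit false
set_option linter.unusedSectionVars false

namespace Cfsg.Agent.H41.FischerTop

open H93
open H61.M24 (Data24 card_res_common card_res_nb moments)

variable {G : Type*} [Group G] [Finite G] {D : Set G}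

/-- Common neighbours of two commuting members of a group of type M(22). -/
theorem card_nb_nb22 {K : Type*} [Field K] [Fintype K] (h : Geo22 D K) {a z : G} (ha : a ∈ D)
    (hz : z ∈ nb D a) : (nb D a ∩ nb D z).ncard = 180 := by
  have h1 := h.card_nb hz.1
  have h2 := h.card_far_in_nb ha hz
  have hsplit : nb D z = insert a (nb D a ∩ nb D z) ∪ {d | d ∈ nb D z ∧ ¬ Commute a d} := by
    ext d
    constructor
    · intro hd
      by_cases e : d = a
      · exact Or.inl (Or.inl e)
      by_cases hc : Commute a d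
      exacts [Or.inl (Or.inr ⟨⟨hd.1, e, hc⟩, hd⟩), Or.inr ⟨hd, hc⟩]
    · rintro ((rfl | hd) | hd)
      exacts [nb_symm ha hz, hd.2, hd.1]
  have hdisj : Disjoint (insert a (nb D a ∩ nb D z)) {d | d ∈ nb D z ∧ ¬ Commute a d} := by
    rw [Set.disjoint_left]
    rintro d (rfl | hd) hd'
    exacts [hd'.2 (Commute.refl _), hd'.2 hd.1.2.2]
  rw [hsplit, Set.ncard_union_eq hdisj,
    Set.ncard_insert_of_notMem (fun q => q.1.2.1 rfl), h2] at h1
  omega

/-- Common neighbours of three pairwise commuting members of a group of type M(23). -/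
theorem card_three23 (h : Geo23 D) {a z w : G} (ha : a ∈ D) (hz : z ∈ nb D a)
    (hw : w ∈ nb D a ∩ nb D z) : (nb D a ∩ (nb D z ∩ nb D w)).ncard = 180 := by
  obtain ⟨K, iK, iKF, h22⟩ := h.res a ha
  rw [card_res_common h.core ha hz hw.1]
  exact card_nb_nb22 h22 (rimg_mem hz) (h.core.rimg_nb ha hz hw)

/-- The same when two of them do not commute. -/
theorem card_far23 (h : Geo23 D) {a z w : G} (ha : a ∈ D) (hz : z ∈ nb D a) (hw : w ∈ nb D a)
    (hn : ¬ Commute z w) : (nb D a ∩ (nb D z ∩ nb D w)).ncard = 126 := by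
  obtain ⟨K, iK, iKF, h22⟩ := h.res a ha
  rw [card_res_common h.core ha hz hw]
  exact h22.card_common (rimg_mem hz) (rimg_mem hw) fun q => hn ((h.core.rimg_comm hz hw).mp q)

/-- A neighbour of `f` not commuting with `x` meets 63 common neighbours of `x` and `f`. -/
theorem slice_far (h : Geo23 D) {x f y : G} (hx : x ∈ D) (hf : f ∈ D) (hn : ¬ Commute x f)
    (hy : y ∈ nb D f) (hyx : ¬ Commute x y) : (common D x f ∩ nb D y).ncard = 63 := by
  classical
  haveI := Fintype.ofFinite G
  let S := (nb D f).toFinset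
  let P := (common D x f).toFinset
  let R : G → G → Prop := fun r g => g ∈ nb D r
  have toSet : ∀ (T : Set G) (p : G → Prop) [DecidablePred p],
      (T.toFinset.filter p).card = {v | v ∈ T ∧ p v}.ncard := fun T p _ => by
    rw [← Set.ncard_coe_finset]
    congr 1
    ext v
    simp
  have hPS : P ⊆ S := fun r hr => Set.mem_toFinset.mpr (Set.mem_toFinset.mp hr).2
  obtain ⟨m1, m2⟩ := moments (S := S) (P := P) (R := R) (K := 693) (lam := 180) (μ := 126)
    (t := 126) hPS
    (fun r q => q.2.1 rfl)
    (fun r hr g _ q => nb_symm (Set.mem_toFinset.mp hr).1 q)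
    (fun r hr => by
      rw [toSet]
      exact H61.M24.Geo23.card_nb_nb h hf (Set.mem_toFinset.mp hr).2)
    (fun r hr => by
      rw [toSet]
      exact h.card_slice hx hf hn (Set.mem_toFinset.mp hr))
    (fun r hr r' hr' q => by
      rw [toSet]
      exact card_three23 h hf (Set.mem_toFinset.mp hr).2 ⟨(Set.mem_toFinset.mp hr').2, q⟩)
    (fun r hr r' hr' hne q => by
      rw [toSet]
      exact card_far23 h hf (Set.mem_toFinset.mp hr).2 (Set.mem_toFinset.mp hr').2
        fun c => q ⟨(Set.mem_toFinset.mp hr').1.1, fun e => hne e.symm, c⟩)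
  have hP : P.card = 351 := by
    rw [← h.card_common hx hf hn]; exact (Set.ncard_eq_toFinset_card' _).symm
  have hS : S.card = 3510 := by
    rw [← h.card_nb hf]; exact (Set.ncard_eq_toFinset_card' _).symm
  have hT : (S \ P).card = 3159 := by
    have := Finset.card_sdiff_add_card_eq_card hPS
    omega
  have hmem : y ∈ S \ P := Finset.mem_sdiff.mpr
    ⟨Set.mem_toFinset.mpr hy, fun q => hyx (Set.mem_toFinset.mp q).1.2.2⟩
  let n : G → ℕ := fun g => (P.filter fun r => R r g).card
  have e1 : ∑ g ∈ S \ P, n g = 199017 := by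
    show ∑ g ∈ S \ P, (P.filter fun r => R r g).card = _
    rw [hP] at m1; omega
  have e2 : ∑ g ∈ S \ P, n g ^ 2 = 12538071 := by
    show ∑ g ∈ S \ P, (P.filter fun r => R r g).card ^ 2 = _
    rw [hP] at m2; omega
  have hvar : ∑ g ∈ S \ P, ((n g : ℤ) - 63) ^ 2 = 0 := by
    have : ∀ g, ((n g : ℤ) - 63) ^ 2 = (n g : ℤ) ^ 2 - 126 * (n g : ℤ) + 3969 := fun g => by ring
    simp only [this, Finset.sum_add_distrib, Finset.sum_sub_distrib, ← Finset.mul_sum,
      Finset.sum_const, nsmul_eq_mul, hT]
    rw [show (∑ g ∈ S \ P, (n g : ℤ) ^ 2) = ((∑ g ∈ S \ P, n g ^ 2 : ℕ) : ℤ) by push_cast; rfl,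
      show (∑ g ∈ S \ P, (n g : ℤ)) = ((∑ g ∈ S \ P, n g : ℕ) : ℤ) by push_cast; rfl, e1, e2]
    norm_num
  have h0 := (Finset.sum_eq_zero_iff_of_nonneg (fun g _ => sq_nonneg _)).mp hvar y hmem
  have h63 : n y = 63 := by
    have := pow_eq_zero_iff two_ne_zero |>.mp h0
    omega
  rw [← h63]
  show _ = (P.filter fun r => R r y).card
  rw [toSet]
  congr 1
  ext r
  exact ⟨fun q => ⟨q.1, nb_symm hy.1 q.2⟩, fun q => ⟨q.1, nb_symm q.1.1.1 q.2⟩⟩

/-- A pair is determined by the common neighbours at one common neighbour. -/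
def PairUnique {H : Type*} [Group H] (E : Set H) : Prop :=
  ∀ a d z e, a ∈ E → d ∈ E → ¬ Commute a d → z ∈ common E a d → e ∈ nb E z → ¬ Commute e d →
    (∀ y ∈ common E a d ∩ nb E z, Commute e y) → e = a ∨ e = a * d * a

theorem pairUnique22 {K : Type*} [Field K] [Fintype K] (h : Geo22 D K) : PairUnique D := by
  intro a d z e ha hd hn hz he hed hk
  have htt := h.core.tt
  by_cases hea : Commute e a
  swap
  · exact Or.inr (h.third_of_common ha hd hn hz he hea hed hk)
  by_cases e1 : e = a
  · exact Or.inl e1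
  exfalso
  have eD := he.1
  have hdz : Commute d z := hz.2.2.2
  set e' := e * d * e with he'
  have he'z : e' ∈ nb D z := by
    have hc : Commute e z := he.2.2.symm
    refine ⟨htt.conj_self_mem eD hd, fun q => ?_, ?_⟩
    · refine hz.2.2.1 ?_
      calc z = e * z * e := by rw [hc.eq, mul_assoc, htt.sq e eD, mul_one]
        _ = e * (e * d * e) * e := by rw [← q]
        _ = d := by
          rw [← mul_assoc e (e * d) e, htt.cancel eD, mul_assoc, htt.sq e eD, mul_one]
    · exact (hc.mul_left hdz |>.mul_left hc).symm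
  have h1 : ¬ Commute e' a := fun q => hn <| by
    have e1 : e * e' * e = d := by
      rw [he', ← mul_assoc e (e * d) e, htt.cancel eD, mul_assoc, htt.sq e eD, mul_one]
    have e2 : e * a * e = a := by rw [hea.eq, mul_assoc, htt.sq e eD, mul_one]
    have := (commute_conj (g := e)).mpr q
    rw [htt.inv_eq eD, e1, e2] at this
    exact this.symm
  have h2 : ¬ Commute e' d := fun q => by
    refine hed ?_
    have h3 := htt.braid eD hd hed
    rw [he', h3] at q
    have := (commute_conj (g := d)).mpr q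
    rw [htt.inv_eq hd, htt.sq d hd, one_mul,
      show d * (d * e * d) * d = e by
        rw [← mul_assoc d (d * e) d, htt.cancel hd, mul_assoc, htt.sq d hd, mul_one]] at this
    exact this
  have h3 := h.third_of_common ha hd hn hz he'z h1 h2 fun y hy =>
    ((hk y hy).mul_left hy.1.2.2.2).mul_left (hk y hy)
  refine hn (htt.commute_of_commute_mul hd ha eD (Ne.symm e1) ?_).1.symm
  show d * (a * e) = a * e * d
  rw [he'] at h3
  calc d * (a * e) = a * (a * d * a) * e := by
        rw [← mul_assoc a (a * d) a, htt.cancel ha, mul_assoc d]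
    _ = a * (e * d * e) * e := by rw [h3]
    _ = a * e * d := by simp only [mul_assoc, htt.sq e eD, mul_one]

theorem pairUnique_step (hcore : Core D)
    (hne : ∀ a d z, a ∈ D → d ∈ D → ¬ Commute a d → z ∈ common D a d →
      ∃ w, w ∈ common D a d ∩ nb D z)
    (hres : ∀ w ∈ D, PairUnique (resSet D w)) : PairUnique D := by
  intro a d z e ha hd hn hz he hed hk
  obtain ⟨w, hw, hwz⟩ := hne a d z ha hd hn hz
  have wD := hw.1.1
  have az := nb_symm ha hw.1
  have dz := nb_symm hd hw.2
  have zw := nb_symm hz.1.1 hwz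
  have hew : Commute e w := hk w ⟨hw, hwz⟩
  have enw : e ∈ nb D w :=
    ⟨he.1, fun q => hed (q ▸ hw.2.2.2.symm), hew.symm⟩
  have memc : ∀ {v}, v ∈ nb D w →
      (rimg D w v ∈ common (resSet D w) (rimg D w a) (rimg D w d) ↔ v ∈ common D a d) := by
    intro v hv
    exact hcore.res_mem_common wD az dz hv
  rcases hres w wD (rimg D w a) (rimg D w d) (rimg D w z) (rimg D w e) (rimg_mem az) (rimg_mem dz)
      (fun q => hn ((hcore.rimg_comm az dz).mp q)) ((memc zw).mpr hz)
      (hcore.rimg_nb wD zw ⟨enw, he⟩) (fun q => hed ((hcore.rimg_comm enw dz).mp q))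
      (fun v hv => by
        obtain ⟨y, hy, rfl⟩ := rimg_surj hv.2.1
        obtain ⟨y', hy', ey⟩ := hcore.rimg_nb_surj wD zw hv.2
        obtain rfl := (hcore.rimg_inj wD hy'.1 hy).mp ey
        exact (hcore.rimg_comm enw hy'.1).mpr (hk y' ⟨(memc hy'.1).mp hv.1, hy'.2⟩)) with q | q
  · exact Or.inl ((hcore.rimg_inj wD enw az).mp q)
  · obtain ⟨hm, em⟩ := H61.M24.rimg_sandwich hcore.tt wD az dz
    exact Or.inr ((hcore.rimg_inj wD enw hm).mp (q.trans em.symm))

theorem pairUnique23 (h : Geo23 D) : PairUnique D :=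
  pairUnique_step h.core
    (fun a d z ha hd hn hz => Set.nonempty_of_ncard_ne_zero (by
      rw [h.card_slice ha hd hn hz]; norm_num))
    fun w hw => by
      obtain ⟨K, iK, iKF, h22⟩ := h.res w hw
      exact pairUnique22 h22

theorem pairUnique24 (h : Data24 D) : PairUnique D :=
  pairUnique_step h.core
    (fun a d z ha hd hn hz => Set.nonempty_of_ncard_ne_zero (by
      rw [h.card_slice ha hd hn hz]; norm_num))
    fun w hw => pairUnique23 (h.res w hw).1

end Cfsg.Agent.H41.FischerTop
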