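import Cfsg.Agent.H41.FischerTop.M22Step
import Cfsg.Agent.H41.FischerTop.Orth8
import Cfsg.Agent.H41.FischerTop.Slice23
import Cfsg.Agent.H41.FischerTop.Frame
import Cfsg.Agent.H97.Refl3.Main

/-!
Fischer's theorem: a component of the common neighbours of two members that do not commute, when the
residues are of type M(23): it is the class of reflections of the eight-dimensional space of plus
type over the field with three elements.
-/

set_option autoImplicit false
set_option linter.unusedSectionVars false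

namespace Cfsg.Agent.H41.FischerTop

open Cfsg
open H76.LocallyS3 (nb cj cj_cj cj_injective commute_cj_iff)
open H80.TTQuad (Cls cj_one cj_inv_cj cj_cj_inv cj_eq_of_commute commute_of_cj_eq nb_symm)
open H80.TTFischer (Local)
open H93 (common rimg rimg_eq rimg_mem rimg_surj resSet Residue Geo23)
open H7Fischer (IsoTo CentralAt Central res tres IsOrthThree IsM23')
open H61.M24 (Data24)

universe u

variable {G : Type u} [Group G] [Finite G] {D : Set G}

/-- The members reached from `s` through commuting common neighbours. -/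
def comp (D : Set G) (x f s : G) : Set G :=
  {p | p ∈ common D x f ∧
    Relation.ReflTransGen (fun p q => q ∈ common D x f ∧ Commute p q) s p}

theorem comp_sub {x f s : G} : comp D x f s ⊆ common D x f := fun _ hp => hp.1

theorem mem_comp_self {x f s : G} (hs : s ∈ common D x f) : s ∈ comp D x f s :=
  ⟨hs, Relation.ReflTransGen.refl⟩

theorem comp_adj {x f s p q : G} (hp : p ∈ comp D x f s) (hq : q ∈ common D x f)
    (hc : Commute p q) : q ∈ comp D x f s := ⟨hq, hp.2.tail ⟨hq, hc⟩⟩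

theorem comp_symm {x f s p : G} (hs : s ∈ common D x f) (hp : p ∈ comp D x f s) :
    s ∈ comp D x f p := by
  refine ⟨hs, ?_⟩
  suffices key : ∀ q, Relation.ReflTransGen (fun p q => q ∈ common D x f ∧ Commute p q) s q →
      q ∈ common D x f ∧
        Relation.ReflTransGen (fun p q => q ∈ common D x f ∧ Commute p q) q s from
    (key p hp.2).2
  intro q hq
  induction hq with
  | refl => exact ⟨hs, Relation.ReflTransGen.refl⟩
  | tail _ h ih => exact ⟨h.1, ih.2.head ⟨ih.1, h.2.symm⟩⟩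

theorem comp_eq {x f s p : G} (hs : s ∈ common D x f) (hp : p ∈ comp D x f s) :
    comp D x f p = comp D x f s :=
  Set.ext fun _ => ⟨fun hq => ⟨hq.1, hp.2.trans hq.2⟩,
    fun hq => ⟨hq.1, (comp_symm hs hp).2.trans hq.2⟩⟩

theorem comp_cj (H : Cls D) (g : G) {x f s p : G} (hp : p ∈ comp D x f s) :
    cj g p ∈ comp D (cj g x) (cj g f) (cj g s) :=
  ⟨common_cj H g hp.1, by
    obtain ⟨-, hr⟩ := hp
    induction hr with
    | refl => exact Relation.ReflTransGen.refl
    | tail _ q ih => exact ih.tail ⟨common_cj H g q.1, commute_cj_iff.2 q.2⟩⟩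

theorem comp_closed (H : Cls D) {x f s : G} (hs : s ∈ common D x f) :
    ∀ a ∈ comp D x f s, ∀ b ∈ comp D x f s, cj a b ∈ comp D x f s := by
  intro a ha b hb
  have hx : cj a x = x := cj_eq_of_commute ha.1.1.2.2.symm
  have hf : cj a f = f := cj_eq_of_commute ha.1.2.2.2.symm
  have h1 := comp_cj H a ha
  have h2 := comp_cj H a hb
  rw [hx, hf] at h1 h2
  have hs' : cj a s ∈ common D x f := by
    have := common_cj H a hs
    rwa [hx, hf] at this
  rw [cj_eq_of_commute (Commute.refl a)] at h1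
  rw [← comp_eq hs ha, comp_eq hs' h1]
  exact h2

theorem nb_comp {x f s t : G} (ht : t ∈ comp D x f s) :
    nb (comp D x f s) t = nb (common D x f) t :=
  Set.ext fun _ => ⟨fun hq => ⟨hq.1.1, hq.2⟩, fun hq => ⟨comp_adj ht hq.1 hq.2.2, hq.2⟩⟩

theorem nb_eq_inter {S : Set G} (hS : S ⊆ D) {t : G} : nb S t = S ∩ H93.nb D t :=
  Set.ext fun _ => ⟨fun hq => ⟨hq.1, hS hq.1, hq.2⟩, fun hq => ⟨hq.1, hq.2.2⟩⟩

theorem comp_subset_D {x f s : G} : comp D x f s ⊆ D := fun _ hp => hp.1.1.1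

/-- A slice is the orthogonal class in dimension seven. -/
theorem slice24 (H : Cls D) (hC : Central D) (hconn : H7Fischer.Conn D) {d : G} (hd : d ∈ D)
    (hR : IsM23' (res D d)) {x f t : G} (hx : x ∈ D) (hf : f ∈ D) (hn : ¬ Commute x f)
    (ht : t ∈ common D x f) :
    ∃ (x' f' : Residue D d) (c : ZMod 3) (φ : G → _),
      IsOrthThree (tres (res D d) x' f') 7 (-c) c ∧
        EqBij (nb (common D x f) t) (tres (res D d) x' f') φ := by
  have h := data24_of_res H hconn hd hR.1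
  obtain ⟨g, hg⟩ := H.exists_cj ht.1.1 hd
  have hx' : cj g x ∈ nb D d := by rw [← hg]; exact H.cj_nb g (nb_symm hx ht.1)
  have hf' : cj g f ∈ nb D d := by rw [← hg]; exact H.cj_nb g (nb_symm hf ht.2)
  have hn' : ¬ Commute (rimg D d (cj g x)) (rimg D d (cj g f)) := fun q =>
    hn (commute_cj_iff.1 ((h.core.rimg_comm hx' hf').mp q))
  have e1 := eqBij_slice H g (x := x) (f := f) (t := t)
  rw [hg] at e1
  have e2 := e1.trans (eqBij_common_res H hC h.core hd hx' hf')
  have RX := rimg_mem hx'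
  have RF := rimg_mem hf'
  have e3 := eqBij_bar (common_closed (H7Fischer.res_cls H hC hd))
    fun a ha b hb e => bar_inj_of_center ((h.res d hd).1.center_common RX RF hn') ha hb e
  obtain ⟨c, hc⟩ := hR.2.2 _ RX _ RF hn'
  exact ⟨_, _, c, _, hc, e2.trans e3⟩

/-- An extension of a bijection is equivariant. -/
theorem hom_equivariant {G' : Type*} [Group G'] {A : Set G} {B : Set G'} {f : G → G'}
    (h : EqBij A B f) (hsq : ∀ a ∈ A, a * a = 1) (φ : ↥(Subgroup.closure A) →* G')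
    (hφ : ∀ a (ha : a ∈ A), φ ⟨a, Subgroup.subset_closure ha⟩ = f a)
    (k : ↥(Subgroup.closure A)) {a : G} (ha : a ∈ A) :
    cj (k : G) a ∈ A ∧ f (cj (k : G) a) = cj (φ k) (f a) := by
  have hmem : cj (k : G) a ∈ A := by
    refine Subgroup.closure_induction_left (p := fun g _ => ∀ a ∈ A, cj g a ∈ A)
      (fun a ha => by rwa [cj_one]) (fun p hp q _ ih a ha => ?_) (fun p hp q _ ih a ha => ?_)
      k.2 a ha
    · rw [← cj_cj]; exact h.closed p hp _ (ih a ha)
    · rw [inv_eq_of_mul_eq_one_left (hsq p hp), ← cj_cj]; exact h.closed p hp _ (ih a ha)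
  refine ⟨hmem, ?_⟩
  rw [← hφ _ hmem, ← hφ a ha, show (⟨cj (k : G) a, Subgroup.subset_closure hmem⟩ :
    ↥(Subgroup.closure A)) = k * ⟨a, Subgroup.subset_closure ha⟩ * k⁻¹ from rfl,
    map_mul, map_mul, map_inv]

/-- A component satisfies the local conditions. -/
theorem comp_local (H : Cls D) (hC : Central D) (hconn : H7Fischer.Conn D) {d : G} (hd : d ∈ D)
    (hR : IsM23' (res D d)) {x f s : G} (hx : x ∈ D) (hf : f ∈ D) (hn : ¬ Commute x f)
    (hs : s ∈ common D x f) : Local (comp D x f s) := by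
  set S := comp D x f s with hS
  have hsq : ∀ a ∈ S, a * a = 1 := fun a ha => H.sq ha.1.1.1
  have slice : ∀ t ∈ S, ∃ (x' f' : Residue D d) (c : ZMod 3) (φ : G → _),
      IsOrthThree (tres (res D d) x' f') 7 (-c) c ∧
        EqBij (nb S t) (tres (res D d) x' f') φ := fun t ht => by
    rw [nb_comp ht]
    exact slice24 H hC hconn hd hR hx hf hn ht.1
  have hnbsq : ∀ t, ∀ a ∈ nb S t, a * a = 1 := fun t a ha => hsq a ha.1
  have tri : ∀ a ∈ S, ∀ b ∈ nb S a, ∃ t ∈ S, a ∈ nb S t ∧ b ∈ nb S t := by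
    intro a ha b hb
    obtain ⟨x', f', c, φ, hc, hφ⟩ := slice a ha
    obtain ⟨e, he⟩ := (cls_of_orthThree (by norm_num) hc).nb_nonempty (hφ.maps b hb)
    obtain ⟨t, ht, rfl⟩ := (hφ.restr_nb hb).surj e he
    exact ⟨t, ht.1.1, ⟨ha, ht.1.2.1.symm, ht.1.2.2.symm⟩, ⟨hb.1, ht.2.1.symm, ht.2.2.symm⟩⟩
  refine ⟨⟨fun a ha => H.cl.1.1 a ha.1.1.1, fun a ha b hb => H.cl.1.2 a ha.1.1.1 b hb.1.1.1⟩,
    ⟨s, mem_comp_self hs⟩, comp_closed H hs, fun a ha b hb => ?_, fun t ht => ?_, fun t ht => ?_,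
    tri⟩
  · -- along a path
    have step : ∀ u ∈ S, ∀ v ∈ S, Commute u v → ∃ g ∈ Subgroup.closure S, cj g u = v := by
      intro u hu v hv huv
      by_cases e : v = u
      · exact ⟨1, one_mem _, by rw [cj_one, e]⟩
      obtain ⟨t, ht, hut, hvt⟩ := tri u hu v ⟨hv, e, huv⟩
      obtain ⟨x', f', c, φ, hc, hφ⟩ := slice t ht
      have Hc := cls_of_orthThree (by norm_num) hc
      obtain ⟨ψ, hψ, hψe⟩ := hφ.exists_hom (hnbsq t) Hc
      obtain ⟨γ, hγ⟩ := Hc.exists_cj (hφ.maps u hut) (hφ.maps v hvt)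
      obtain ⟨k, rfl⟩ := hψ γ
      obtain ⟨hm, he⟩ := hom_equivariant hφ (hnbsq t) ψ hψe k hut
      exact ⟨k, Subgroup.closure_mono (fun z hz => hz.1) k.2,
        hφ.inj _ hm v hvt (he.trans hγ)⟩
    have hab : b ∈ comp D x f a := by rw [comp_eq hs ha]; exact hb
    suffices key : ∀ q, Relation.ReflTransGen (fun p q => q ∈ common D x f ∧ Commute p q) a q →
        q ∈ S ∧ ∃ g ∈ Subgroup.closure S, cj g a = q from (key b hab.2).2
    intro q hq
    induction hq with
    | refl => exact ⟨ha, 1, one_mem _, cj_one a⟩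
    | @tail p r _ hpr ih =>
      obtain ⟨hp, g, hg, eg⟩ := ih
      have hr : r ∈ S := comp_adj hp hpr.1 hpr.2
      obtain ⟨k, hk, ek⟩ := step p hp r hr hpr.2
      exact ⟨hr, k * g, mul_mem hk hg, by rw [← cj_cj, eg, ek]⟩
  · obtain ⟨x', f', c, φ, hc, hφ⟩ := slice t ht
    exact hφ.reduced (hnbsq t) (cls_of_orthThree (by norm_num) hc)
  · obtain ⟨x', f', c, φ, hc, hφ⟩ := slice t ht
    obtain ⟨e, he⟩ := (cls_of_orthThree (by norm_num) hc).nonempty
    obtain ⟨a, ha, -⟩ := hφ.surj e he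
    exact ⟨a, ha⟩

/-- Eight pairwise commuting members in a component. -/
theorem comp_eight (h : Data24 D) {x f s : G} (hx : x ∈ D) (hf : f ∈ D) (hn : ¬ Commute x f)
    (hs : s ∈ common D x f) :
    ∃ l : Fin 8 → G, Function.Injective l ∧ (∀ i, l i ∈ comp D x f s) ∧
      ∀ i j, Commute (l i) (l j) := by
  have sD := hs.1.1
  have xs := H93.nb_symm hx hs.1
  have fs := H93.nb_symm hf hs.2
  have hW := (h.res s sD).1
  obtain ⟨E, hE, -, hc, h7⟩ := Nat.sSup_mem (s := {n : ℕ | ∃ E : Set (Residue D s),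
      E ⊆ common (resSet D s) (rimg D s x) (rimg D s f) ∧ E.Finite ∧
        (∀ p ∈ E, ∀ q ∈ E, Commute p q) ∧ E.ncard = n})
    ⟨0, ∅, Set.empty_subset _, Set.finite_empty, by simp, by simp⟩
    ⟨Nat.card (Residue D s), fun n ⟨S, _, _, _, e⟩ =>
      e ▸ (Set.ncard_univ _ ▸ Set.ncard_le_ncard (Set.subset_univ S))⟩
  rw [show sSup _ = 7 from hW.width_seven (rimg_mem xs) (rimg_mem fs)
    fun q => hn ((h.core.rimg_comm xs fs).mp q)] at h7
  set E' := {y | y ∈ common D x f ∩ H93.nb D s ∧ rimg D s y ∈ E}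
  have h7' : E'.ncard = 7 := by
    rw [← h7]
    refine Set.BijOn.ncard_eq (f := rimg D s) ⟨fun y hy => hy.2,
      fun p hp q hq e => (h.core.rimg_inj sD hp.1.2 hq.1.2).mp e, fun e he => ?_⟩
    obtain ⟨y, hy, rfl⟩ := h.core.res_common_pull sD xs fs (hE he)
    exact ⟨y, ⟨hy, he⟩, rfl⟩
  have h8 : Nat.card ↥(insert s E') = 8 := by
    rw [Nat.card_coe_set_eq, Set.ncard_insert_of_notMem (fun q => q.1.2.2.1 rfl), h7']
  let e := (Finite.equivFinOfCardEq h8).symm
  refine ⟨fun i => (e i : G), fun i j q => e.injective (Subtype.ext q), fun i => ?_, fun i j => ?_⟩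
  · show (e i : G) ∈ comp D x f s
    rcases (e i).2 with q | q
    · rw [q]; exact mem_comp_self hs
    · exact comp_adj (mem_comp_self hs) q.1.1 q.1.2.2.2
  · show Commute (e i : G) (e j : G)
    rcases (e i).2 with p | p <;> rcases (e j).2 with q | q
    · rw [p, q]
    · rw [p]; exact q.1.2.2.2
    · rw [q]; exact p.1.2.2.2.symm
    · exact (h.core.rimg_comm p.1.2 q.1.2).mp (hc _ p.2 _ q.2)

/-- A component is the class of plus type in dimension eight. -/
theorem comp_isoTo (H : Cls D) (hC : Central D) (hconn : H7Fischer.Conn D) {d : G} (hd : d ∈ D)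
    (hR : IsM23' (res D d)) {x f s : G} (hx : x ∈ D) (hf : f ∈ D) (hn : ¬ Commute x f)
    (hs : s ∈ common D x f) : IsoTo (Local.image (comp D x f s)) D8 := by
  have hT := comp_local H hC hconn hd hR hx hf hn hs
  set S := comp D x f s
  have eT := eqBij_bar_local hT
  have HT := hT.cls_image
  have ht : s ∈ S := mem_comp_self hs
  obtain ⟨x', f', c, φ, hc, hφ⟩ := slice24 H hC hconn hd hR hx hf hn hs
  rw [← nb_comp ht] at hφ
  have Hc := cls_of_orthThree (by norm_num) hc
  obtain ⟨ψ, hψ, -⟩ := (eT.restr_nb ht).symm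
  have hb := eT.maps s ht
  have hCT : Central (Local.image S) :=
    H7Fischer.central_of_at HT hb (centralAt HT hb (hψ.trans hφ) Hc)
  have hRT := isOrthThree_of_isoTo (res_isoTo HT hCT hb (hψ.trans hφ) Hc) hc
  have hconnT : H7Fischer.Conn (Local.image S) := by
    haveI : Nonempty ↥(Local.image S) := ⟨⟨_, hb⟩⟩
    refine ⟨fun a b => ?_⟩
    obtain ⟨z, hz, hza⟩ := eT.surj a a.2
    obtain ⟨w, hw, hwb⟩ := eT.surj b b.2
    suffices key : ∀ w, Relation.ReflTransGen (fun p q => q ∈ common D x f ∧ Commute p q) z w →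
        ∃ hw : w ∈ S, (Cfsg.commutingGraph _).Reachable a ⟨_, eT.maps w hw⟩ by
      obtain ⟨hw', hr⟩ := key w (show w ∈ comp D x f z by rw [comp_eq hs hz]; exact hw).2
      rwa [show (⟨_, eT.maps w hw'⟩ : ↥(Local.image S)) = b from Subtype.ext hwb] at hr
    intro w hw
    induction hw with
    | refl =>
      refine ⟨hz, ?_⟩
      rw [show (⟨_, eT.maps z hz⟩ : ↥(Local.image S)) = a from Subtype.ext hza]
    | @tail u v _ huv ih =>
      obtain ⟨hu, hr⟩ := ih
      have hv : v ∈ S := comp_adj hu huv.1 huv.2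
      refine ⟨hv, hr.trans ?_⟩
      by_cases e : u = v
      · subst e; exact SimpleGraph.Reachable.refl _
      refine SimpleGraph.Adj.reachable ((SimpleGraph.fromRel_adj _ _ _).2
        ⟨fun q => e (eT.inj u hu v hv (congrArg Subtype.val q)), Or.inl ?_⟩)
      exact (eT.commute hu hv).2 huv.2
  have h8 := H97.Refl3.orth_three_step HT hCT hconnT hb (by norm_num : 5 ≤ 7) hRT
  obtain ⟨l, hl, hlS, hlc⟩ := comp_eight (data24_of_res H hconn hd hR.1) hx hf hn hs
  exact isoTo_D8 h8 (l := fun i => bar S (l i))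
    (fun i j q => hl (eT.inj _ (hlS i) _ (hlS j) q)) (fun i => eT.maps _ (hlS i))
    fun i j => (eT.commute (hlS i) (hlS j)).2 (hlc i j)

/-- In a slice, the members commuting with one of them. -/
theorem card_slice_pair (h : Data24 D) {x f a b : G} (hx : x ∈ D) (hf : f ∈ D)
    (hn : ¬ Commute x f) (ha : a ∈ common D x f) (hb : b ∈ common D x f ∩ H93.nb D a) :
    ((common D x f ∩ H93.nb D a) ∩ H93.nb D b).ncard = 126 := by
  have aD := ha.1.1
  have xa := H93.nb_symm hx ha.1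
  have fa := H93.nb_symm hf ha.2
  have hn' : ¬ Commute (rimg D a x) (rimg D a f) := fun q => hn ((h.core.rimg_comm xa fa).mp q)
  rw [← (h.res a aD).1.card_slice (rimg_mem xa) (rimg_mem fa) hn'
    ((h.core.res_mem_common aD xa fa hb.2).mpr hb.1)]
  refine Set.BijOn.ncard_eq (f := rimg D a)
    ⟨fun y hy => ⟨(h.core.res_mem_common aD xa fa hy.1.2).mpr hy.1.1,
      h.core.rimg_nb aD hb.2 ⟨hy.1.2, hy.2⟩⟩,
    fun y hy y' hy' e => (h.core.rimg_inj aD hy.1.2 hy'.1.2).mp e, ?_⟩
  rintro e ⟨he, he'⟩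
  obtain ⟨y, hy, rfl⟩ := h.core.rimg_nb_surj aD hb.2 he'
  exact ⟨y, ⟨⟨(h.core.res_mem_common aD xa fa hy.1).mp he, hy.1⟩, hy.2⟩, rfl⟩

/-- The parameters of a component. -/
theorem comp_counts (H : Cls D) (hC : Central D) (hconn : H7Fischer.Conn D) {d : G} (hd : d ∈ D)
    (hR : IsM23' (res D d)) {x f s : G} (hx : x ∈ D) (hf : f ∈ D) (hn : ¬ Commute x f)
    (hs : s ∈ common D x f) :
    (comp D x f s).ncard = 1080 ∧
    (∀ a ∈ comp D x f s, (comp D x f s ∩ H93.nb D a).ncard = 351) ∧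
    (∀ a ∈ comp D x f s, ∀ b ∈ comp D x f s ∩ H93.nb D a,
      (comp D x f s ∩ (H93.nb D a ∩ H93.nb D b)).ncard = 126) ∧
    ∀ a ∈ comp D x f s, ∀ b ∈ comp D x f s, ¬ Commute a b →
      (comp D x f s ∩ (H93.nb D a ∩ H93.nb D b)).ncard = 108 := by
  classical
  haveI := Fintype.ofFinite G
  have h := data24_of_res H hconn hd hR.1
  have hT := comp_local H hC hconn hd hR hx hf hn hs
  have hiso := comp_isoTo H hC hconn hd hR hx hf hn hs
  set S := comp D x f s with hS
  have eT := eqBij_bar_local hT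
  have hbij : Set.BijOn (bar S) S (Local.image S) := ⟨eT.maps, eT.inj, eT.surj⟩
  have h1080 : S.ncard = 1080 := hbij.ncard_eq.trans (ncard_eq hiso)
  have hnb : ∀ a ∈ S, S ∩ H93.nb D a = common D x f ∩ H93.nb D a := fun a ha => Set.ext fun q =>
    ⟨fun hq => ⟨hq.1.1, hq.2⟩, fun hq => ⟨comp_adj ha hq.1 hq.2.2.2, hq.2⟩⟩
  have h351 : ∀ a ∈ S, (S ∩ H93.nb D a).ncard = 351 := fun a ha => by
    rw [hnb a ha]; exact h.card_slice hx hf hn ha.1
  have h126 : ∀ a ∈ S, ∀ b ∈ S ∩ H93.nb D a, (S ∩ (H93.nb D a ∩ H93.nb D b)).ncard = 126 := by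
    intro a ha b hb
    rw [← Set.inter_assoc, hnb a ha]
    exact card_slice_pair h hx hf hn ha.1 ⟨hb.1.1, hb.2⟩
  refine ⟨h1080, h351, h126, ?_⟩
  -- the number is constant
  have const : ∀ a ∈ S, ∀ b ∈ S, ¬ Commute a b → ∀ a' ∈ S, ∀ b' ∈ S, ¬ Commute a' b' →
      (S ∩ (H93.nb D a ∩ H93.nb D b)).ncard = (S ∩ (H93.nb D a' ∩ H93.nb D b')).ncard := by
    intro a ha b hb hab a' ha' b' hb' hab'
    obtain ⟨γ, h1, h2⟩ := pair_trans hiso (eT.maps a ha) (eT.maps b hb) (eT.maps a' ha')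
      (eT.maps b' hb') (fun q => hab ((eT.commute ha hb).1 q))
      (fun q => hab' ((eT.commute ha' hb').1 q))
    obtain ⟨⟨k, hk⟩, rfl⟩ := QuotientGroup.mk_surjective γ
    have back : ∀ {p q}, p ∈ S → q ∈ S →
        cj (QuotientGroup.mk (⟨k, hk⟩ : ↥(Subgroup.closure S)) : Local.Quot S) (bar S p) = bar S q →
        cj k p = q := by
      intro p q hp hq e
      refine eT.inj _ (hT.closed_closure hk hp) q hq ?_
      rw [← e, bar_eq (hT.closed_closure hk hp), bar_eq hp]
      rfl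
    have ea := back ha ha' h1
    have eb := back hb hb' h2
    refine Set.BijOn.ncard_eq (f := cj k) ⟨?_, fun p _ q _ e => cj_injective k e, ?_⟩
    · rintro z ⟨hz, hza, hzb⟩
      exact ⟨hT.closed_closure hk hz, ea ▸ H.cj_nb k hza, eb ▸ H.cj_nb k hzb⟩
    · rintro z ⟨hz, hza, hzb⟩
      refine ⟨cj k⁻¹ z, ⟨hT.closed_closure (inv_mem hk) hz, ?_, ?_⟩, cj_cj_inv k z⟩
      · have := H.cj_nb k⁻¹ hza
        rwa [← ea, cj_inv_cj] at this
      · have := H.cj_nb k⁻¹ hzb
        rwa [← eb, cj_inv_cj] at this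
  intro a ha b hb hab
  set μ := (S ∩ (H93.nb D a ∩ H93.nb D b)).ncard
  -- count the pairs at `a`
  let P := S.toFinset
  let R : G → G → Prop := fun r g => g ∈ H93.nb D r
  have toSet : ∀ (T : Set G) (p : G → Prop) [DecidablePred p],
      (T.toFinset.filter p).card = {v | v ∈ T ∧ p v}.ncard := fun T p _ => by
    rw [← Set.ncard_coe_finset]
    congr 1
    ext v
    simp
  have hK : ∀ r ∈ P, (P.filter (R r)).card = 351 := fun r hr => by
    rw [toSet]; exact h351 r (Set.mem_toFinset.mp hr)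
  have hsum := H61.M24.sum_inner (S := P) (P := P) (R := R) (lam := 126) (μ := μ) (t := 351)
    (fun r q => q.2.1 rfl) hK hK
    (fun r hr r' hr' q => by
      rw [toSet]
      exact h126 r (Set.mem_toFinset.mp hr) r' ⟨Set.mem_toFinset.mp hr', q⟩)
    (fun r hr r' hr' hne q => by
      rw [toSet]
      refine const r (Set.mem_toFinset.mp hr) r' (Set.mem_toFinset.mp hr') (fun c => q ?_)
        a ha b hb hab
      exact ⟨(Set.mem_toFinset.mp hr').1.1.1, Ne.symm hne, c⟩)
    (Set.mem_toFinset.mpr ha)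
  have hP : P.card = 1080 := by
    rw [← h1080]; exact (Set.ncard_eq_toFinset_card' _).symm
  have hswap : ∑ r' ∈ P, (P.filter fun g => R a g ∧ R r' g).card = 123201 := by
    have e : ∀ r', (P.filter fun g => R a g ∧ R r' g).card =
        ((P.filter (R a)).filter fun g => R r' g).card := fun r' => by rw [Finset.filter_filter]
    simp only [e, Finset.card_filter]
    rw [Finset.sum_comm]
    rw [Finset.sum_congr rfl (g := fun _ => 351) fun g hg => ?_, Finset.sum_const, smul_eq_mul,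
      hK a (Set.mem_toFinset.mpr ha)]
    obtain ⟨hgP, -⟩ := Finset.mem_filter.mp hg
    rw [← Finset.card_filter, ← hK g hgP, toSet, toSet]
    congr 1
    ext r
    exact ⟨fun q => ⟨q.1, H93.nb_symm q.1.1.1.1 q.2⟩,
      fun q => ⟨q.1, H93.nb_symm (Set.mem_toFinset.mp hgP).1.1.1 q.2⟩⟩
  rw [hswap, hP] at hsum
  omega

end Cfsg.Agent.H41.FischerTop
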