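import Cfsg.Agent.H41.FischerTop.Zero
import Cfsg.Agent.H93.Common24
import Mathlib.GroupTheory.Perm.Sign

/-!
Fischer's theorem, residues of type M(23): the common neighbours of two members that do not commute
fall into three components, permuted as the symmetric group of degree three; the kernel is the
simple orthogonal group of plus type in dimension eight over the field with three elements.
-/

set_option autoImplicit false
set_option linter.unusedSectionVars false

namespace Cfsg.Agent.H41.FischerTop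

open Cfsg
open H76.LocallyS3 (cj cj_cj cj_injective commute_cj_iff)
open H80.TTQuad (Cls cj_one cj_inv_cj cj_cj_inv cj_eq_of_commute commute_of_cj_eq)
open H93 (common rimg rimg_eq rimg_mem rimg_surj resSet Residue Geo23 nb nb_symm nbSub nbElem)
open H7Fischer (Central res IsM23')
open H61.M24 (Data24)
open Orthogonal.O83.Refl (W8)

universe u

variable {G : Type u} [Group G] [Finite G] {D : Set G} {x f s : G}

theorem perm_three_center : ∀ u : Equiv.Perm (Fin 3), (∀ v, u * v = v * u) → u = 1 := by decide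

theorem perm_three_swap : ∀ σ : Equiv.Perm (Fin 3), ∀ i : Fin 3,
    σ i = i → (∀ j, j ≠ i → σ j ≠ j) → ∀ j k, j ≠ i → k ≠ i → j ≠ k → σ = Equiv.swap j k := by
  decide

theorem perm_three_pick : ∀ j k : Fin 3, j ≠ k → ∃ i, i ≠ j ∧ i ≠ k := by decide

namespace Set24

variable (h : Set24 D x f s)

include h

theorem comp_mono {t p : G} (hp : p ∈ comp D x f t) : p ∈ common D x f := hp.1

/-- Three components cover the common neighbours. -/
theorem three_comps : ∃ sc : Fin 3 → G, sc 0 = s ∧ (∀ i, sc i ∈ common D x f) ∧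
    (∀ i j, sc j ∈ comp D x f (sc i) → i = j) ∧
      ∀ c ∈ common D x f, ∃ i, c ∈ comp D x f (sc i) := by
  obtain ⟨-, hZ⟩ := h.dichotomy
  have hsub : ∀ {t}, t ∈ zset D x f s → comp D x f t ⊆ zset D x f s := by
    intro t ht q hq
    refine ⟨hq.1.2, fun a ha hc => ht.2 t ?_ (Commute.refl t)⟩
    have hqS : q ∈ comp D x f s := comp_adj ha hq.1 hc.symm
    rw [← comp_eq h.hs hqS, comp_eq (h.zset_common ht) hq]
    exact mem_comp_self (h.zset_common ht)
  have hout : ∀ c ∈ common D x f, c ∉ comp D x f s → c ∈ zset D x f s := fun c hc hcs =>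
    ⟨hc.2, fun a ha q => hcs (comp_adj ha hc q.symm)⟩
  obtain ⟨t1, ht1⟩ := Set.nonempty_of_ncard_ne_zero (s := zset D x f s) (by rw [hZ]; norm_num)
  have c1 := h.zset_common ht1
  obtain ⟨t2, ht2, ht21⟩ : ∃ t2 ∈ zset D x f s, t2 ∉ comp D x f t1 := by
    by_contra hall
    simp only [not_exists, not_and, not_not] at hall
    have := Set.ncard_le_ncard (show zset D x f s ⊆ comp D x f t1 from hall)
    rw [hZ, (h.at_member c1).counts.1] at this
    omega
  have c2 := h.zset_common ht2
  have hdis : Disjoint (comp D x f t1) (comp D x f t2) := Set.disjoint_left.mpr fun q q1 q2 =>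
    ht21 (by rw [← comp_eq c1 q1, comp_eq c2 q2]; exact mem_comp_self c2)
  have hunion : comp D x f t1 ∪ comp D x f t2 = zset D x f s :=
    Set.eq_of_subset_of_ncard_le (Set.union_subset (hsub ht1) (hsub ht2)) (by
      rw [Set.ncard_union_eq hdis, (h.at_member c1).counts.1, (h.at_member c2).counts.1, hZ])
  have n01 : ∀ {t}, t ∈ zset D x f s → t ∉ comp D x f s := fun {t} ht q =>
    ht.2 t q (Commute.refl t)
  have n10 : ∀ {t}, t ∈ zset D x f s → s ∉ comp D x f t := fun {t} ht q =>
    n01 ht (comp_symm (h.zset_common ht) q)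
  refine ⟨![s, t1, t2], rfl, ?_, ?_, fun c hc => ?_⟩
  · intro i
    fin_cases i
    exacts [h.hs, c1, c2]
  · intro i j
    fin_cases i <;> fin_cases j
    exacts [fun _ => rfl, fun q => (n01 ht1 q).elim, fun q => (n01 ht2 q).elim,
      fun q => (n10 ht1 q).elim, fun _ => rfl, fun q => (ht21 q).elim,
      fun q => (n10 ht2 q).elim, fun q => (ht21 (comp_symm c2 q)).elim, fun _ => rfl]
  · by_cases hcs : c ∈ comp D x f s
    · exact ⟨0, hcs⟩
    · have := hout c hc hcs
      rw [← hunion] at this
      exact this.elim (fun q => ⟨1, q⟩) fun q => ⟨2, q⟩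

/-- The group generated by the common neighbours fixes the pair. -/
theorem commute_closure {g : G} (hg : g ∈ Subgroup.closure (common D x f)) :
    Commute g x ∧ Commute g f := by
  have hle : Subgroup.closure (common D x f) ≤ Subgroup.centralizer ({x, f} : Set G) :=
    (Subgroup.closure_le _).mpr fun y hy => Subgroup.mem_centralizer_iff.mpr (by
      rintro t (rfl | rfl)
      exacts [hy.1.2.2.eq, hy.2.2.2.eq])
  have := Subgroup.mem_centralizer_iff.mp (hle hg)
  exact ⟨(this x (by simp)).symm, (this f (by simp)).symm⟩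

theorem cj_common {g t : G} (hg : g ∈ Subgroup.closure (common D x f)) (ht : t ∈ common D x f) :
    cj g t ∈ common D x f := by
  have := common_cj h.H g ht
  rwa [cj_eq_of_commute (h.commute_closure hg).1, cj_eq_of_commute (h.commute_closure hg).2] at this

theorem cj_comp {g t p : G} (hg : g ∈ Subgroup.closure (common D x f)) (hp : p ∈ comp D x f t) :
    cj g p ∈ comp D x f (cj g t) := by
  have := comp_cj h.H g hp
  rwa [cj_eq_of_commute (h.commute_closure hg).1, cj_eq_of_commute (h.commute_closure hg).2] at this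

/-- The permutations of the components. -/
theorem exists_perm : ∃ π : ↥(Subgroup.closure (common D x f)) →* Equiv.Perm (Fin 3),
    Function.Surjective π ∧
    (∀ g : ↥(Subgroup.closure (common D x f)), π g 0 = 0 → cj (g : G) s ∈ comp D x f s) ∧
    ∀ g : ↥(Subgroup.closure (common D x f)), (g : G) ∈ comp D x f s → π g = Equiv.swap 1 2 := by
  classical
  obtain ⟨sc, hsc0, hsc, huniq, hcov⟩ := h.three_comps
  have H := h.H
  let idx : G → Fin 3 := fun c => if hc : c ∈ common D x f then (hcov c hc).choose else 0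
  have idx_spec : ∀ {c}, c ∈ common D x f → c ∈ comp D x f (sc (idx c)) := fun {c} hc => by
    simp only [idx, dif_pos hc]; exact (hcov c hc).choose_spec
  have idx_eq : ∀ {c i}, c ∈ comp D x f (sc i) → idx c = i := fun {c i} hc =>
    (huniq i (idx c) (by
      rw [← comp_eq (hsc i) hc, comp_eq (hsc _) (idx_spec hc.1)]
      exact mem_comp_self (hsc _))).symm
  let act : ↥(Subgroup.closure (common D x f)) → Fin 3 → Fin 3 := fun g i => idx (cj (g : G) (sc i))
  have act_idx : ∀ (g : ↥(Subgroup.closure (common D x f))) {c}, c ∈ common D x f → idx (cj (g : G) c) = act g (idx c) := by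
    intro g c hc
    refine idx_eq ?_
    rw [← comp_eq (hsc _) (idx_spec (h.cj_common g.2 (hsc (idx c))))]
    exact h.cj_comp g.2 (idx_spec hc)
  have act_one : ∀ i, act 1 i = i := fun i => by
    show idx (cj (1 : G) (sc i)) = i
    rw [cj_one]; exact idx_eq (mem_comp_self (hsc i))
  have act_mul : ∀ g k i, act (g * k) i = act g (act k i) := fun g k i => by
    show idx (cj ((g : G) * (k : G)) (sc i)) = _
    rw [← cj_cj]
    exact act_idx g (h.cj_common k.2 (hsc i))
  let π : ↥(Subgroup.closure (common D x f)) →* Equiv.Perm (Fin 3) :=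
    { toFun := fun g => ⟨act g, act g⁻¹, fun i => by rw [← act_mul, inv_mul_cancel, act_one],
        fun i => by rw [← act_mul, mul_inv_cancel, act_one]⟩
      map_one' := Equiv.ext act_one
      map_mul' := fun g k => Equiv.ext (act_mul g k) }
  have hswap : ∀ p (hp : p ∈ common D x f), ∀ j k, j ≠ idx p → k ≠ idx p → j ≠ k →
      π ⟨p, Subgroup.subset_closure hp⟩ = Equiv.swap j k := by
    intro p hp
    set g : ↥(Subgroup.closure (common D x f)) := ⟨p, Subgroup.subset_closure hp⟩
    refine perm_three_swap _ (idx p) ?_ fun j hj e => ?_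
    · show act g (idx p) = idx p
      have := act_idx g hp
      rw [show cj (g : G) p = p from cj_eq_of_commute (Commute.refl p)] at this
      exact this.symm
    · have he : idx (cj p (sc j)) = j := e
      have hq := idx_spec (h.cj_common g.2 (hsc j))
      rw [show idx (cj (g : G) (sc j)) = j from he] at hq
      have hnc : ¬ Commute p (sc j) := fun c => hj
        (idx_eq (comp_adj (mem_comp_self (hsc j)) hp c.symm)).symm
      have hm := comp_closed H (hsc j) (sc j) (mem_comp_self (hsc j)) _ hq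
      have e2 : cj (sc j) (cj p (sc j)) = p := by
        rw [H.braid hp.1.1 (hsc j).1.1 hnc, H.cj_invol (hsc j).1.1]
      rw [show ((g : G)) = p from rfl, e2] at hm
      exact hj (idx_eq hm).symm
  refine ⟨π, ?_, fun g hg => ?_, fun g hg => ?_⟩
  · rw [← MonoidHom.range_eq_top, eq_top_iff, ← Equiv.Perm.closure_isSwap, Subgroup.closure_le]
    rintro _ ⟨j, k, hjk, rfl⟩
    obtain ⟨i, hij, hik⟩ := perm_three_pick j k hjk
    refine ⟨⟨sc i, Subgroup.subset_closure (hsc i)⟩, hswap _ (hsc i) j k ?_ ?_ hjk⟩ <;>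
      rw [idx_eq (mem_comp_self (hsc i))]
    exacts [hij.symm, hik.symm]
  · have hg' : idx (cj (g : G) (sc 0)) = 0 := hg
    have := idx_spec (h.cj_common g.2 (hsc 0))
    rwa [hg', hsc0] at this
  · have h0 : idx (g : G) = 0 := idx_eq (by rw [hsc0]; exact hg)
    exact hswap _ (show (g : G) ∈ common D x f from hg.1) 1 2 (by rw [h0]; decide)
      (by rw [h0]; decide) (by decide)

/-- Images of the slice at `s` generate the common neighbours in the residue. -/
theorem lift_res {γ : Residue D s}
    (hγ : γ ∈ Subgroup.closure (common (resSet D s) (rimg D s x) (rimg D s f))) :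
    ∃ k, ∃ hk : k ∈ nbSub D s, k ∈ Subgroup.closure (comp D x f s) ∧
      (QuotientGroup.mk (⟨k, hk⟩ : ↥(nbSub D s)) : Residue D s) = γ := by
  refine Subgroup.closure_induction (fun e he => ?_) ?_ (fun p q _ _ hp hq => ?_) (fun p _ hp => ?_) hγ
  · obtain ⟨v, hv, rfl⟩ := h.data.core.res_common_pull h.hs.1.1 (nb_symm h.hx h.hs.1)
      (nb_symm h.hf h.hs.2) he
    exact ⟨v, Subgroup.subset_closure hv.2,
      Subgroup.subset_closure (comp_adj (mem_comp_self h.hs) hv.1 hv.2.2.2), (rimg_eq hv.2).symm⟩
  · exact ⟨1, one_mem _, one_mem _, rfl⟩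
  · obtain ⟨k, hk, h1, rfl⟩ := hp
    obtain ⟨l, hl, h2, rfl⟩ := hq
    exact ⟨k * l, mul_mem hk hl, mul_mem h1 h2, rfl⟩
  · obtain ⟨k, hk, h1, rfl⟩ := hp
    exact ⟨k⁻¹, inv_mem hk, inv_mem h1, rfl⟩

theorem closure_comp_le : Subgroup.closure (comp D x f s) ≤ Subgroup.closure (common D x f) :=
  Subgroup.closure_mono comp_sub

/-- What fixes `s` and the pair, in the residue at `s`. -/
theorem res_at {k : G} (hkL : k ∈ Subgroup.closure (common D x f)) (hks : Commute k s) :
    ∃ hk : k ∈ nbSub D s, (QuotientGroup.mk (⟨k, hk⟩ : ↥(nbSub D s)) : Residue D s) ∈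
      Subgroup.closure (common (resSet D s) (rimg D s x) (rimg D s f)) := by
  have hd := h.data
  have xs := nb_symm h.hx h.hs.1
  have fs := nb_symm h.hf h.hs.2
  have hk : k ∈ nbSub D s :=
    hd.stab h.hs.1.1 xs (Subgroup.closure_mono (fun y hy => hy.1) hkL) hks
  refine ⟨hk, ?_⟩
  rw [← (hd.res s h.hs.1.1).1.cent_eq (rimg_mem xs) (rimg_mem fs)
    (fun q => h.hn ((hd.core.rimg_comm xs fs).mp q))]
  obtain ⟨hkx, hkf⟩ := h.commute_closure hkL
  refine Subgroup.mem_centralizer_iff.mpr ?_
  rintro t (rfl | rfl)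
  · rw [rimg_eq xs]
    exact congrArg QuotientGroup.mk (Subtype.ext hkx.eq.symm :
      nbElem xs * (⟨k, hk⟩ : ↥(nbSub D s)) = (⟨k, hk⟩ : ↥(nbSub D s)) * nbElem xs)
  · rw [rimg_eq fs]
    exact congrArg QuotientGroup.mk (Subtype.ext hkf.eq.symm :
      nbElem fs * (⟨k, hk⟩ : ↥(nbSub D s)) = (⟨k, hk⟩ : ↥(nbSub D s)) * nbElem fs)

/-- The stabiliser of a component is generated by it. -/
theorem stab_comp {g : G} (hg : g ∈ Subgroup.closure (common D x f))
    (hgs : cj g s ∈ comp D x f s) : g ∈ Subgroup.closure (comp D x f s) := by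
  obtain ⟨a, ha, ea⟩ := h.localS.conj (cj g s) hgs s (mem_comp_self h.hs)
  have hkL : a * g ∈ Subgroup.closure (common D x f) := mul_mem (h.closure_comp_le ha) hg
  have hks : Commute (a * g) s := commute_of_cj_eq (by rw [← cj_cj]; exact ea)
  obtain ⟨hk, hγ⟩ := h.res_at hkL hks
  obtain ⟨l, hl, hlS, el⟩ := h.lift_res hγ
  have hd := h.data
  have hc : l⁻¹ * (a * g) ∈ Subgroup.closure (comp D x f s) := by
    rcases hd.center_two h.hs.1.1 (mul_mem (inv_mem hl) hk) (by
        rw [show (⟨l⁻¹ * (a * g), mul_mem (inv_mem hl) hk⟩ : ↥(nbSub D s)) =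
          (⟨l, hl⟩ : ↥(nbSub D s))⁻¹ * ⟨a * g, hk⟩ from rfl, QuotientGroup.mk_mul,
          QuotientGroup.mk_inv, inv_mul_eq_one]
        exact el) with q | q
    · rw [q]; exact one_mem _
    · rw [q]; exact Subgroup.subset_closure (mem_comp_self h.hs)
  have := mul_mem (inv_mem ha) (mul_mem hlS hc)
  rwa [show a⁻¹ * (l * (l⁻¹ * (a * g))) = g by group] at this

/-- Nothing but `1` centralises a component. -/
theorem cent_comp {k : G} (hk : k ∈ Subgroup.closure (common D x f))
    (hc : ∀ a ∈ comp D x f s, Commute k a) : k = 1 := by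
  have hd := h.data
  have xs := nb_symm h.hx h.hs.1
  have fs := nb_symm h.hf h.hs.2
  obtain ⟨hks, hγ⟩ := h.res_at hk (hc s (mem_comp_self h.hs))
  set γ : Residue D s := QuotientGroup.mk (⟨k, hks⟩ : ↥(nbSub D s))
  have hcen : (⟨γ, hγ⟩ : ↥(Subgroup.closure (common (resSet D s) (rimg D s x) (rimg D s f)))) ∈
      Subgroup.center ↥(Subgroup.closure (common (resSet D s) (rimg D s x) (rimg D s f))) := by
    have hle : Subgroup.closure (common (resSet D s) (rimg D s x) (rimg D s f)) ≤
        Subgroup.centralizer ({γ} : Set (Residue D s)) := (Subgroup.closure_le _).mpr fun e he => by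
      obtain ⟨v, hv, rfl⟩ := hd.core.res_common_pull h.hs.1.1 xs fs he
      rw [SetLike.mem_coe, Subgroup.mem_centralizer_singleton_iff, rimg_eq hv.2]
      exact congrArg QuotientGroup.mk (Subtype.ext
        (hc v (comp_adj (mem_comp_self h.hs) hv.1 hv.2.2.2)).eq.symm :
        nbElem hv.2 * (⟨k, hks⟩ : ↥(nbSub D s)) = (⟨k, hks⟩ : ↥(nbSub D s)) * nbElem hv.2)
    exact Subgroup.mem_center_iff.mpr fun t =>
      Subtype.ext (Subgroup.mem_centralizer_singleton_iff.mp (hle t.2))
  rw [(hd.res s h.hs.1.1).1.center_common (rimg_mem xs) (rimg_mem fs)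
    (fun q => h.hn ((hd.core.rimg_comm xs fs).mp q)), Subgroup.mem_bot] at hcen
  rcases hd.center_two h.hs.1.1 hks (congrArg Subtype.val hcen) with q | q
  · exact q
  exfalso
  obtain ⟨h1080, h351, -, -⟩ := h.counts
  have hsub : comp D x f s ⊆ insert s (comp D x f s ∩ nb D s) := fun a ha => by
    by_cases e : a = s
    · exact Or.inl e
    · exact Or.inr ⟨ha, ha.1.1.1, e, q ▸ hc a ha⟩
  have := (Set.ncard_le_ncard hsub (Set.toFinite _)).trans (Set.ncard_insert_le _ _)
  rw [h1080, h351 s (mem_comp_self h.hs)] at this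
  omega

theorem center_closure_comp : Subgroup.center ↥(Subgroup.closure (comp D x f s)) = ⊥ := by
  refine eq_bot_iff.2 fun z hz => Subgroup.mem_bot.2 (Subtype.ext ?_)
  exact h.cent_comp (h.closure_comp_le z.2) fun a ha =>
    (congrArg Subtype.val (Subgroup.mem_center_iff.1 hz ⟨a, Subgroup.subset_closure ha⟩)).symm

/-- The component generates the projective reflection group. -/
theorem exists_equiv : Nonempty (W8 ≃* ↥(Subgroup.closure (comp D x f s))) := by
  obtain ⟨d, hd, hR⟩ := h.res
  obtain ⟨e, -⟩ := comp_isoTo h.H h.hC h.hconn hd hR h.hx h.hf h.hn h.hs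
  exact ⟨e.symm.trans ((QuotientGroup.quotientMulEquivOfEq h.center_closure_comp).trans
    QuotientGroup.quotientBot)⟩

theorem center_closure_common : Subgroup.center ↥(Subgroup.closure (common D x f)) = ⊥ := by
  obtain ⟨π, hπ, hstab, -⟩ := h.exists_perm
  refine eq_bot_iff.2 fun z hz => Subgroup.mem_bot.2 (Subtype.ext ?_)
  have h1 : π z = 1 := perm_three_center _ fun v => by
    obtain ⟨g, rfl⟩ := hπ v
    rw [← map_mul, ← map_mul, Subgroup.mem_center_iff.1 hz g]
  have hzH := h.stab_comp z.2 (hstab z (by rw [h1]; rfl))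
  exact h.cent_comp (h.closure_comp_le hzH) fun a ha => (congrArg Subtype.val
    (Subgroup.mem_center_iff.1 hz ⟨a, Subgroup.subset_closure (comp_sub ha)⟩)).symm

/-- The group generated by the common neighbours is an extension of the simple orthogonal group by
the symmetric group of degree three. -/
theorem pomega_ext :
    ∃ π : ↥(Subgroup.closure (common D x f)) →* Equiv.Perm (Fin 3), Function.Surjective π ∧
      Nonempty (↥π.ker ≃* Cfsg.POmega (ZMod 3) (Cfsg.quadFormPlus 4 (ZMod 3))) := by
  obtain ⟨π, hπ, hstab, hswap⟩ := h.exists_perm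
  obtain ⟨e⟩ := h.exists_equiv
  refine ⟨π, hπ, ?_⟩
  let ψ : W8 →* ↥(Subgroup.closure (common D x f)) :=
    (Subgroup.inclusion h.closure_comp_le).comp e.toMonoidHom
  have hψ : Function.Injective ψ :=
    (Subgroup.inclusion_injective h.closure_comp_le).comp e.injective
  let ρ := π.comp ψ
  set σ : Equiv.Perm (Fin 3) := Equiv.swap 1 2
  have hrange : ρ.range = Subgroup.zpowers σ := by
    let w0 : ↥(Subgroup.closure (comp D x f s)) :=
      ⟨s, Subgroup.subset_closure (mem_comp_self h.hs)⟩
    refine le_antisymm ?_ (Subgroup.zpowers_le.2 ⟨e.symm w0, ?_⟩)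
    · have key : ∀ g (hg : g ∈ Subgroup.closure (comp D x f s)),
          π ⟨g, h.closure_comp_le hg⟩ ∈ Subgroup.zpowers σ := by
        intro g hg
        refine Subgroup.closure_induction (p := fun g hg => π ⟨g, h.closure_comp_le hg⟩ ∈
          Subgroup.zpowers σ) (fun a ha => ?_) ?_ (fun p q hp hq ihp ihq => ?_)
          (fun p hp ih => ?_) hg
        · rw [hswap _ ha]; exact Subgroup.mem_zpowers σ
        · rw [show (⟨1, _⟩ : ↥(Subgroup.closure (common D x f))) = 1 from rfl, map_one]
          exact one_mem _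
        · rw [show (⟨p * q, _⟩ : ↥(Subgroup.closure (common D x f))) =
            ⟨p, h.closure_comp_le hp⟩ * ⟨q, h.closure_comp_le hq⟩ from rfl, map_mul]
          exact mul_mem ihp ihq
        · rw [show (⟨p⁻¹, _⟩ : ↥(Subgroup.closure (common D x f))) =
            ⟨p, h.closure_comp_le hp⟩⁻¹ from rfl, map_inv]
          exact inv_mem ih
      rintro _ ⟨w, rfl⟩
      exact key _ (e w).2
    · refine (congrArg π ?_).trans (hswap ⟨s, Subgroup.subset_closure h.hs⟩ (mem_comp_self h.hs))
      refine Subtype.ext ?_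
      show ((e (e.symm _) : ↥(Subgroup.closure (comp D x f s))) : G) = s
      rw [e.apply_symm_apply]
  have hidx : ρ.ker.index = 2 := by
    rw [Subgroup.index_ker, hrange, Nat.card_zpowers]
    exact orderOf_eq_prime (by rw [pow_two, Equiv.swap_mul_self]) (by decide)
  have hle : commutator W8 ≤ ρ.ker := by
    rw [commutator_def, Subgroup.commutator_le]
    intro p _ q _
    obtain ⟨i, hi⟩ := Subgroup.mem_zpowers_iff.1
      (show ρ p ∈ Subgroup.zpowers σ by rw [← hrange]; exact ⟨p, rfl⟩)
    obtain ⟨j, hj⟩ := Subgroup.mem_zpowers_iff.1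
      (show ρ q ∈ Subgroup.zpowers σ by rw [← hrange]; exact ⟨q, rfl⟩)
    rw [MonoidHom.mem_ker, map_commutatorElement, commutatorElement_eq_one_iff_commute, ← hi, ← hj]
    exact (Commute.refl σ).zpow_zpow i j
  have hkerρ : ρ.ker = commutator W8 := by
    refine le_antisymm (Subgroup.relIndex_eq_one.1 ?_) hle
    have := Subgroup.relIndex_mul_index hle
    rw [hidx, Orthogonal.O83.Refl.index_commutator_W8] at this
    omega
  have hmap : ρ.ker.map ψ = π.ker := by
    refine le_antisymm ?_ fun g hg => ?_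
    · rintro _ ⟨w, hw, rfl⟩
      exact hw
    · rw [MonoidHom.mem_ker] at hg
      have hgH := h.stab_comp g.2 (hstab g (by rw [hg]; rfl))
      have e1 : ψ (e.symm ⟨g, hgH⟩) = g := Subtype.ext (by
        show ((e (e.symm _) : ↥(Subgroup.closure (comp D x f s))) : G) = g
        rw [e.apply_symm_apply])
      refine ⟨e.symm ⟨g, hgH⟩, ?_, e1⟩
      show π (ψ _) = 1
      rw [e1, hg]
  obtain ⟨e3⟩ := Orthogonal.O83.Refl.nonempty_commutator_equiv
  exact ⟨((MulEquiv.subgroupCongr hmap).symm.trans
    (ρ.ker.equivMapOfInjective ψ hψ).symm).trans ((MulEquiv.subgroupCongr hkerρ).trans e3)⟩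

end Set24

end Cfsg.Agent.H41.FischerTop
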