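import Cfsg.Agent.H7Fischer.Residue
import Cfsg.Agent.H61.M24.Common

/-!
Fischer's theorem, the sporadic steps: what the theory of groups of type M(22), M(23) gives for a
class whose residue has such a type, before anything is known about the group generated by the
common neighbours of two members that do not commute.
-/

set_option autoImplicit false
set_option linter.unusedSectionVars false

namespace Cfsg.Agent.H41.FischerTop

open Cfsg
open H93 (Core Indep Residue resSet nbSub rimg rimg_mem M23Data Geo23 TT Sep)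
open H61.M24 (Data24)
open H80.TTQuad (Cls)

universe u

variable {G : Type u} [Group G] [Finite G] {D : Set G}

theorem tt_of_cls (H : Cls D) : TT D := TT.of_class H.cl

theorem ne_one_of_cls (H : Cls D) : ∀ a ∈ D, a ≠ 1 := fun _ ha => H44.tt_ne_one H.cl.1 ha

/-- A class whose residue has an element of order eleven is well behaved. -/
theorem core_of_res (H : Cls D) {d : G} (h11 : ∃ g : Residue D d, g ≠ 1 ∧ g ^ 11 = 1) : Core D where
  tt := tt_of_cls H
  ne_one := ne_one_of_cls H
  cls a ha b hb := by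
    obtain ⟨g, hg⟩ := H.exists_cj ha hb
    exact isConj_iff.mpr ⟨g, hg⟩
  nodom a ha b hb := by
    obtain ⟨c, hc, hbc⟩ := H.exists_noncommute_nb ha hb
    exact ⟨c, hc, fun q => hbc q.symm⟩
  edge a ha := H.nb_nonempty ha
  eleven := by
    by_contra hno
    have hG : ∀ g : G, g ^ 11 = 1 → g = 1 := fun g hg =>
      Classical.byContradiction fun hne => hno ⟨g, hne, hg⟩
    obtain ⟨g, hg1, hg11⟩ := h11
    have hH : ∀ h : ↥(nbSub D d), h ^ 11 = 1 → h = 1 := fun h hh =>
      Subtype.ext (hG _ (by simpa using congrArg Subtype.val hh))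
    exact hg1 (H93.quotient_eleven hH _ _ hg11)

/-- A connected commuting graph, read as paths of commuting members. -/
theorem conn_of_graph (h : H7Fischer.Conn D) : H93.Conn D := by
  intro a ha y hy
  obtain ⟨w⟩ := h.preconnected ⟨a, ha⟩ ⟨y, hy⟩
  suffices key : ∀ (p q : ↥D), (Cfsg.commutingGraph D).Walk p q →
      Relation.ReflTransGen (H93.Adj D) (p : G) q from key _ _ w
  intro p q w
  induction w with
  | nil => exact Relation.ReflTransGen.refl
  | @cons p r q hpr _ ih =>
    refine ih.head ⟨p.2, r.2, fun e => hpr.ne (Subtype.ext e.symm), ?_⟩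
    rcases (SimpleGraph.fromRel_adj _ _ _).1 hpr |>.2 with c | c
    exacts [c, c.symm]

/-- The type of one residue is the type of all. -/
theorem type22_all (H : Cls D) {d : G} (hd : d ∈ D)
    (h22 : Cfsg.IsOfTypeM22 (Residue D d) (resSet D d)) :
    ∀ x ∈ D, Cfsg.IsOfTypeM22 (Residue D x) (resSet D x) := by
  intro x hx
  obtain ⟨g, rfl⟩ := H.exists_cj hd hx
  obtain ⟨e, he⟩ := H93.residue_conj (tt_of_cls H) g d
  exact he ▸ H93.type22_transfer e h22

theorem core22 (H : Cls D) {d : G} (hd : d ∈ D)
    (h22 : Cfsg.IsOfTypeM22 (Residue D d) (resSet D d)) : Core D :=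
  core_of_res H (H93.core_of_M22 (H93.tt_resSet (tt_of_cls H) hd) (H93.closure_resSet d) h22).eleven

theorem residue22 (H : Cls D) {d : G} (hd : d ∈ D)
    (h22 : Cfsg.IsOfTypeM22 (Residue D d) (resSet D d)) {x : G} (hx : x ∈ D) :
    Core (resSet D x) ∧ Sep (resSet D x) :=
  have h := H93.good22 (H93.tt_resSet (tt_of_cls H) hx) (H93.closure_resSet x)
    (H93.resSet_ne_one (core22 H hd h22) hx) (type22_all H hd h22 x hx)
  ⟨h.1, h.2.2.1⟩

theorem indep22 (H : Cls D) {d : G} (hd : d ∈ D)
    (h22 : Cfsg.IsOfTypeM22 (Residue D d) (resSet D d)) : Indep D 6 := by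
  have htt := tt_of_cls H
  have e : D \ {1} = D := H93.diff_one_eq (ne_one_of_cls H)
  have := H93.indep_step htt (e.symm ▸ core22 H hd h22) (d := d) (e.symm ▸ hd)
    (H93.indep_of_M22 (H93.tt_resSet htt hd) (H93.closure_resSet d) h22)
  rwa [e] at this

/-- The facts used about groups of type M(23), from the type of a residue. -/
theorem m23data_of_res (H : Cls D) {d : G} (hd : d ∈ D)
    (h22 : Cfsg.IsOfTypeM22 (Residue D d) (resSet D d)) : M23Data D := by
  have htt := tt_of_cls H
  have hcore := core22 H hd h22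
  have hr := residue22 H hd h22 hd
  obtain ⟨hrig, -⟩ := H93.rigid22 (H93.tt_resSet htt hd) (H93.closure_resSet d)
    (H93.resSet_ne_one hcore hd) h22
  obtain ⟨-, -, -, F, iF, iFF, hF, hsp⟩ := H93.good22 (H93.tt_resSet htt hd) (H93.closure_resSet d)
    (H93.resSet_ne_one hcore hd) h22
  have hl : H93.Local D d := H93.local_of_residue hcore hd hr.1 hr.2 hrig
  refine ⟨hcore, indep22 H hd h22, H93.conn_of_residue_spaces hF hcore hd hsp,
    fun a ha => (H93.local_all hcore hd hl a ha).sep, H.center_eq_bot, H.cl.2.2, ⟨d, hd⟩,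
    fun a ha => ?_⟩
  obtain ⟨F', iF', iFF', hdata, K, iK, iKF, hK, hcent, hext⟩ :=
    H93.cent22 (H7Fischer.res_class H ha) (type22_all H hd h22 a ha)
  exact ⟨F', iF', iFF', hdata, hcent, K, iK, iKF, hK, hext⟩

/-- The geometry of groups of type M(23), from the type of a residue. -/
theorem geo23_of_res (H : Cls D) {d : G} (hd : d ∈ D)
    (h22 : Cfsg.IsOfTypeM22 (Residue D d) (resSet D d)) : Geo23 D := by
  have h := m23data_of_res H hd h22
  refine ⟨h.core, fun k hk => h.eq_one hk, fun a ha => h.cent ha, fun a ha => h.self_mem ha,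
    fun a ha k hk => h.center_two ha k.2 ((QuotientGroup.eq_one_iff _).mpr hk), fun a ha => ?_,
    fun a ha x hx hn => h.coverData.far_nonempty ha hx hn, fun a ha x hx hn z hz w hw => ?_⟩
  · obtain ⟨F, iF, iFF, hM, hcent, K, iK, iKF, hK, hext⟩ := h.res a ha
    have hcov := hM.coverData fun x hx z _ g _ hgx => by
      rw [← hcent x hx]; exact H93.mem_cent hgx.symm
    exact ⟨K, iK, iKF, hK, hM.core, fun k hk => hM.eq_one hk, hcent, hext,
      fun x hx y hy hn => hcov.far_nonempty hx hy hn⟩
  · obtain ⟨z', hz', hzw, hreach⟩ := h.coverData.far a ha x hx hn z hz w hw.2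
    exact hreach.tail ⟨hw, hzw⟩

/-- The type of one residue is the type of all. -/
theorem type23_all (H : Cls D) {d : G} (hd : d ∈ D)
    (h23 : Cfsg.IsOfTypeM23 (Residue D d) (resSet D d)) :
    ∀ x ∈ D, Cfsg.IsOfTypeM23 (Residue D x) (resSet D x) := by
  intro x hx
  obtain ⟨g, rfl⟩ := H.exists_cj hd hx
  obtain ⟨e, he⟩ := H93.residue_conj (tt_of_cls H) g d
  exact he ▸ H61.M24.type23_transfer e h23

theorem core23 (H : Cls D) {d : G} (hd : d ∈ D)
    (h23 : Cfsg.IsOfTypeM23 (Residue D d) (resSet D d)) : Core D :=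
  core_of_res H (H93.core_of_M23 (H93.tt_resSet (tt_of_cls H) hd) (H93.closure_resSet d) h23).eleven

/-- The facts used about groups of type M(24), from the type of a residue. -/
theorem data24_of_res (H : Cls D) (hconn : H7Fischer.Conn D) {d : G} (hd : d ∈ D)
    (h23 : Cfsg.IsOfTypeM23 (Residue D d) (resSet D d)) : Data24 D := by
  have htt := tt_of_cls H
  have hcore := core23 H hd h23
  have hne := H93.resSet_ne_one hcore hd
  have e : D \ {1} = D := H93.diff_one_eq (ne_one_of_cls H)
  have hind : Indep D 7 := by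
    have := H93.indep_step htt (e.symm ▸ hcore) (d := d) (e.symm ▸ hd)
      (H93.indep_of_M23 (H93.tt_resSet htt hd) (H93.closure_resSet d) h23)
    rwa [e] at this
  obtain ⟨hrig, -⟩ := H93.rigid23 (H93.tt_resSet htt hd) (H93.closure_resSet d) hne h23
  obtain ⟨hrc, -, hrs, -⟩ := H93.good23 (H93.tt_resSet htt hd) (H93.closure_resSet d) hne h23
  have hl : H93.Local D d := H93.local_of_residue hcore hd hrc hrs hrig
  refine ⟨hcore, hind, conn_of_graph hconn, fun a ha => (H93.local_all hcore hd hl a ha).sep,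
    H.center_eq_bot, H.cl.2.2, ⟨d, hd⟩, fun a ha => ?_⟩
  have h23a := type23_all H hd h23 a ha
  exact ⟨H93.geo23 (H7Fischer.res_class H ha) h23a, H93.m23data (H7Fischer.res_class H ha) h23a⟩

/-- A class with a residue of type M(24) has no short relations. -/
theorem indep24 (H : Cls D) {d : G} (hd : d ∈ D)
    (h24 : Cfsg.IsOfTypeM24 (Residue D d) (resSet D d)) : Core D ∧ Indep D 8 := by
  have htt := tt_of_cls H
  have hres := H93.tt_resSet htt hd
  have hcore : Core D :=
    core_of_res H (H93.core_of_M24 hres (H93.closure_resSet d) h24).eleven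
  have e : D \ {1} = D := H93.diff_one_eq (ne_one_of_cls H)
  have := H93.indep_step htt (e.symm ▸ hcore) (d := d) (e.symm ▸ hd)
    (H93.indep_of_M24 hres (H93.closure_resSet d) h24)
  exact ⟨hcore, by rwa [e] at this⟩

end Cfsg.Agent.H41.FischerTop
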