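import Cfsg.Agent.H41.FischerTop.Sect
import Cfsg.Agent.H41.FischerTop.Pre
import Cfsg.Agent.H97.Refl3.Class
import Cfsg.Agent.H93.Common23

/-!
Fischer's theorem: a residue of type M(22) gives type M(23).  The common neighbours of two members
that do not commute form a class whose residues are the common neighbours inside the residues.
-/

set_option autoImplicit false
set_option linter.unusedSectionVars false

namespace Cfsg.Agent.H41.FischerTop

open Cfsg
open H76.LocallyS3 (nb cj cj_cj cj_injective commute_cj_iff)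
open H80.TTQuad (Cls cj_one cj_inv_cj cj_cj_inv cj_eq_of_commute commute_of_cj_eq nb_symm)
open H80.TTFischer (Local)
open H93 (common rimg rimg_eq rimg_mem resSet Residue Geo22 Geo23)
open H7Fischer (IsoTo CentralAt Central res tres IsOrthThree IsM22' IsM23' Triangle)

universe u v

/-- The orthogonal step, used as a hypothesis. -/
def OrthStep : Prop :=
  ∀ {G : Type u} [Group G] [Finite G] {D : Set G}, Cls D → Central D → H7Fischer.Conn D →
    ¬ Triangle D → ∀ {d : G}, d ∈ D → ∀ {n : ℕ} {μ c : ZMod 3}, 5 ≤ n →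
      IsOrthThree (res D d) n μ c → IsOrthThree D (n + 1) (-c * μ) c

variable {G : Type u} [Group G] [Finite G] {D : Set G}

/-- An orthogonal type over three elements has no solvable normal subgroups. -/
theorem cls_of_orthThree {G' : Type v} [Group G'] [Finite G'] {D' : Set G'} {n : ℕ} {μ c : ZMod 3}
    (hn : 5 ≤ n) (h : IsOrthThree D' n μ c) : Cls D' := by
  obtain ⟨Q, hQ, -, hc, he⟩ := h
  exact H7Fischer.cls_of_isoTo he.symm
    (H97.Refl3.cls_refl3 (Orthogonal.nondeg_of_polarBilin hQ) hc hn)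

theorem isOrthThree_of_isoTo {G' : Type v} [Group G'] {D' : Set G'} {G'' : Type u} [Group G'']
    {D'' : Set G''} {n : ℕ} {μ c : ZMod 3} (he : IsoTo D'' D') (h : IsOrthThree D' n μ c) :
    IsOrthThree D'' n μ c := by
  obtain ⟨Q, hQ, hμ, hc, he'⟩ := h
  exact ⟨Q, hQ, hμ, hc, he.trans he'⟩

theorem common_closed (H : Cls D) {x f : G} :
    ∀ a ∈ common D x f, ∀ b ∈ common D x f, cj a b ∈ common D x f := fun _ ha _ hb =>
  ⟨H.cj_mem_nb ha.1.2.2.symm hb.1, H.cj_mem_nb ha.2.2.2.symm hb.2⟩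

theorem common_cj (H : Cls D) (g : G) {x f a : G} (ha : a ∈ common D x f) :
    cj g a ∈ common D (cj g x) (cj g f) := ⟨H.cj_nb g ha.1, H.cj_nb g ha.2⟩

theorem common_cj_iff (H : Cls D) (g : G) {x f a : G} :
    cj g a ∈ common D (cj g x) (cj g f) ↔ a ∈ common D x f := by
  refine ⟨fun h => ?_, common_cj H g⟩
  have := common_cj H g⁻¹ h
  rwa [cj_inv_cj, cj_inv_cj, cj_inv_cj] at this

/-- A slice, moved by conjugation. -/
theorem eqBij_slice (H : Cls D) (g : G) {x f t : G} :
    EqBij (nb (common D x f) t) (nb (common D (cj g x) (cj g f)) (cj g t)) (cj g) where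
  maps a ha := ⟨common_cj H g ha.1, fun e => ha.2.1 (cj_injective g e), commute_cj_iff.2 ha.2.2⟩
  inj a _ b _ e := cj_injective g e
  surj b hb := by
    refine ⟨cj g⁻¹ b, ⟨?_, fun e => hb.2.1 (by rw [← e, cj_cj_inv]), ?_⟩, cj_cj_inv g b⟩
    · rw [← common_cj_iff H g, cj_cj_inv]
      exact hb.1
    · rw [← commute_cj_iff (g := g), cj_cj_inv]
      exact hb.2.2
  closed a ha b hb := by
    refine ⟨common_closed H a ha.1 b hb.1, fun e => hb.2.1 (cj_injective a ?_), ?_⟩
    · rw [e, cj_eq_of_commute ha.2.2.symm]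
    · have := (commute_cj_iff (g := a)).2 hb.2.2
      rwa [cj_eq_of_commute ha.2.2.symm] at this
  map_cj a _ b _ := by simp only [cj]; group

/-- A slice at `d`, read in the residue. -/
theorem eqBij_common_res (H : Cls D) (hC : Central D) (hcore : H93.Core D) {d x f : G} (hd : d ∈ D)
    (hx : x ∈ nb D d) (hf : f ∈ nb D d) :
    EqBij (nb (common D x f) d) (common (res D d) (rimg D d x) (rimg D d f)) (rimg D d) := by
  have hset : nb (common D x f) d =
      {a | a ∈ nb D d ∧ rimg D d a ∈ common (res D d) (rimg D d x) (rimg D d f)} := by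
    have key : ∀ {p a}, p ∈ nb D d → a ∈ nb D d →
        (rimg D d a ∈ nb (res D d) (rimg D d p) ↔ a ∈ nb D p) := by
      intro p a hp ha
      exact ⟨fun q => ⟨ha.1, fun e => q.2.1 (by rw [e]), (hcore.rimg_comm hp ha).mp q.2.2⟩,
        fun q => hcore.rimg_nb hd hp ⟨ha, q⟩⟩
    ext a
    constructor
    · rintro ⟨ha, hne, hc⟩
      have hda : a ∈ nb D d := ⟨ha.1.1, hne, hc⟩
      exact ⟨hda, (key hx hda).2 ha.1, (key hf hda).2 ha.2⟩
    · rintro ⟨hda, h1, h2⟩
      exact ⟨⟨(key hx hda).1 h1, (key hf hda).1 h2⟩, hda.2.1, hda.2.2⟩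
  rw [hset]
  exact (eqBij_rimg H hC hd).restr (fun a ha => ha.1.1)
    (common_closed (H7Fischer.res_cls H hC hd))

/-- A common slice is the orthogonal class in dimension six, and has a bad triple. -/
theorem slice_model (H : Cls D) (hC : Central D) {d : G} (hd : d ∈ D) (hR : IsM22' (res D d))
    {x f t : G} (hx : x ∈ D) (hf : f ∈ D) (hn : ¬ Commute x f) (ht : t ∈ common D x f) :
    (∃ (x' f' : Residue D d) (c : ZMod 3) (φ : G → _),
      IsOrthThree (tres (res D d) x' f') 6 1 c ∧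
        EqBij (nb (common D x f) t) (tres (res D d) x' f') φ) ∧
    ∃ p q o, p ∈ nb (common D x f) t ∧ q ∈ nb (common D x f) t ∧ o ∈ nb (common D x f) t ∧
      ¬ Commute o p ∧ ¬ Commute o q ∧ ¬ Commute p q ∧ ¬ Commute o (cj p q) := by
  obtain ⟨g, hg⟩ := H.exists_cj ht.1.1 hd
  have hx' : cj g x ∈ nb D d := by rw [← hg]; exact H.cj_nb g (nb_symm hx ht.1)
  have hf' : cj g f ∈ nb D d := by rw [← hg]; exact H.cj_nb g (nb_symm hf ht.2)
  have hcore := core22 H hd hR.1
  have hn' : ¬ Commute (rimg D d (cj g x)) (rimg D d (cj g f)) := fun q =>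
    hn (commute_cj_iff.1 ((hcore.rimg_comm hx' hf').mp q))
  have e1 := (eqBij_slice H g (x := x) (f := f) (t := t))
  rw [hg] at e1
  have e2 := e1.trans (eqBij_common_res H hC hcore hd hx' hf')
  obtain ⟨K, iK, iKF, h22⟩ := H93.geo22 (H7Fischer.res_class H hd) hR.1
  have RX := rimg_mem hx'
  have RF := rimg_mem hf'
  have e3 := eqBij_bar (common_closed (H7Fischer.res_cls H hC hd))
    fun a ha b hb e => bar_inj_of_center (h22.center_common RX RF hn') ha hb e
  obtain ⟨c, hc⟩ := hR.2.2 _ RX _ RF hn'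
  refine ⟨⟨_, _, c, _, hc, e2.trans e3⟩, ?_⟩
  obtain ⟨z, hz⟩ := h22.exists_common RX RF hn'
  obtain ⟨w, hw, hzw⟩ := h22.exists_apart RX RF hn' hz
  obtain ⟨p, q, o, hp, hq, ho, npq, nqo, nop, npqo⟩ := h22.triangle_far RX RF hn' hz hw hzw
  obtain ⟨p, mp, rfl⟩ := e2.surj p hp.1.1
  obtain ⟨q, mq, rfl⟩ := e2.surj q hq.1.1
  obtain ⟨o, mo, rfl⟩ := e2.surj o ho.1.1
  refine ⟨p, q, o, mp, mq, mo, fun c => nop ((e2.commute mo mp).2 c),
    fun c => nqo ((e2.commute mo mq).2 c).symm, fun c => npq ((e2.commute mp mq).2 c), fun c => npqo ?_⟩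
  have := ((e2.commute mo (e2.closed p mp q mq)).2 c).symm
  rw [e2.map_cj p mp q mq] at this
  rwa [cj, (H7Fischer.res_cls H hC hd).inv' (e2.maps p mp).1.1] at this

/-- The common neighbours satisfy the local conditions. -/
theorem common_local (H : Cls D) (hC : Central D) {d : G} (hd : d ∈ D) (hR : IsM22' (res D d))
    {x f : G} (hx : x ∈ D) (hf : f ∈ D) (hn : ¬ Commute x f) : Local (common D x f) := by
  have hg := geo23_of_res H hd hR.1
  refine ⟨⟨fun a ha => H.cl.1.1 a ha.1.1, fun a ha b hb => H.cl.1.2 a ha.1.1 b hb.1.1⟩,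
    hg.far x hx f hf hn, common_closed H, fun a ha b hb => hg.orbit_all hx hf hn ha hb,
    fun t ht => ?_, fun t ht => ?_, fun a ha b hb => ?_⟩
  · obtain ⟨⟨x', f', c, φ, hc, hφ⟩, -⟩ := slice_model H hC hd hR hx hf hn ht
    exact hφ.reduced (fun a ha => H.sq ha.1.1.1) (cls_of_orthThree (by norm_num) hc)
  · obtain ⟨-, p, -, -, hp, -⟩ := slice_model H hC hd hR hx hf hn ht
    exact ⟨p, hp⟩
  · obtain ⟨⟨x', f', c, φ, hc, hφ⟩, -⟩ := slice_model H hC hd hR hx hf hn ha
    obtain ⟨e, he⟩ := (cls_of_orthThree (by norm_num) hc).nb_nonempty (hφ.maps b hb)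
    obtain ⟨t, ht, rfl⟩ := (hφ.restr_nb hb).surj e he
    exact ⟨t, ht.1.1, ⟨ha, ht.1.2.1.symm, ht.1.2.2.symm⟩, ⟨hb.1, ht.2.1.symm, ht.2.2.symm⟩⟩

/-- The common neighbours of two members that do not commute. -/
theorem tres_of_m22 (hO : OrthStep.{u}) (H : Cls D) (hC : Central D) {d : G} (hd : d ∈ D)
    (hR : IsM22' (res D d)) {x f : G} (hx : x ∈ D) (hf : f ∈ D) (hn : ¬ Commute x f) :
    ∃ c : ZMod 3, IsOrthThree (tres D x f) 7 (-c) c := by
  have hg := geo23_of_res H hd hR.1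
  have hT := common_local H hC hd hR hx hf hn
  have eT := eqBij_bar_local hT
  have HT := hT.cls_image
  obtain ⟨t, ht⟩ := hT.nonempty
  obtain ⟨⟨x', f', c, φ, hc, hφ⟩, p, q, o, hp, hq, ho, nop, noq, npq, nopq⟩ :=
    slice_model H hC hd hR hx hf hn ht
  have Hc := cls_of_orthThree (by norm_num) hc
  obtain ⟨ψ, hψ, -⟩ := (eT.restr_nb ht).symm
  have hb := eT.maps t ht
  have hCT : Central (Local.image (common D x f)) :=
    H7Fischer.central_of_at HT hb (centralAt HT hb (hψ.trans hφ) Hc)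
  have hRT := isOrthThree_of_isoTo (res_isoTo HT hCT hb (hψ.trans hφ) Hc) hc
  have hconn : H7Fischer.Conn (Local.image (common D x f)) := by
    haveI : Nonempty ↥(Local.image (common D x f)) := ⟨⟨_, hb⟩⟩
    refine ⟨fun a b => ?_⟩
    obtain ⟨z, hz, hza⟩ := eT.surj a a.2
    obtain ⟨w, hw, hwb⟩ := eT.surj b b.2
    suffices key : ∀ w, Relation.ReflTransGen (fun p q => q ∈ common D x f ∧ Commute p q) z w →
        ∃ hw : w ∈ common D x f, (Cfsg.commutingGraph _).Reachable a ⟨_, eT.maps w hw⟩ by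
      obtain ⟨hw', hr⟩ := key w (hg.link x hx f hf hn z hz w hw)
      rwa [show (⟨_, eT.maps w hw'⟩ : ↥(Local.image (common D x f))) = b from Subtype.ext hwb] at hr
    intro w hw
    induction hw with
    | refl =>
      refine ⟨hz, ?_⟩
      rw [show (⟨_, eT.maps z hz⟩ : ↥(Local.image (common D x f))) = a from Subtype.ext hza]
    | @tail u v _ huv ih =>
      obtain ⟨hu, hr⟩ := ih
      refine ⟨huv.1, hr.trans ?_⟩
      by_cases e : u = v
      · subst e; exact SimpleGraph.Reachable.refl _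
      refine SimpleGraph.Adj.reachable ((SimpleGraph.fromRel_adj _ _ _).2
        ⟨fun q => e (eT.inj u hu v huv.1 (congrArg Subtype.val q)), Or.inl ?_⟩)
      exact (eT.commute hu huv.1).2 huv.2
  have hnT : ¬ Triangle (Local.image (common D x f)) := fun hT' => nopq <| by
    refine (eT.commute ho.1 (eT.closed p hp.1 q hq.1)).1 ?_
    rw [eT.map_cj p hp.1 q hq.1]
    exact (hT' _ (eT.maps p hp.1) _ (eT.maps q hq.1) (fun q' => npq ((eT.commute hp.1 hq.1).1 q')) _
      (eT.maps o ho.1)).2 ⟨fun q' => absurd ((eT.commute ho.1 hp.1).1 q') nop,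
        fun q' => absurd ((eT.commute ho.1 hq.1).1 q') noq⟩
  have h7 := hO HT hCT hconn hnT hb (by norm_num : 5 ≤ 6) hRT
  rw [mul_one] at h7
  exact ⟨c, h7⟩

/-- A residue of type M(22) gives type M(23). -/
theorem m22_step (hO : OrthStep.{u}) (H : Cls D) (hC : Central D) (hconn : H7Fischer.Conn D)
    {d : G} (hd : d ∈ D) (hR : IsM22' (res D d)) : IsM23' D := by
  refine ⟨?_, hconn, fun x hx f hf hn => tres_of_m22 hO H hC hd hR hx hf hn⟩
  obtain ⟨f, hf, hn⟩ : ∃ f ∈ D, ¬ Commute d f := by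
    by_contra hall
    simp only [not_exists, not_and, not_not] at hall
    exact ne_one_of_cls H d hd (H.eq_one_of_fix fun e he => cj_eq_of_commute (hall e he))
  obtain ⟨c, Q, hQ, hμ, hc, e, -⟩ := tres_of_m22 hO H hC hd hR hd hf hn
  exact ⟨H.center_eq_bot, d, hd, f, hf, hn, hR.1, c, hc, Q, hQ, hμ, ⟨e⟩⟩

end Cfsg.Agent.H41.FischerTop
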