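import Cfsg.Agent.H41.FischerTop.L24

/-!
Fischer's theorem: a residue of type M(23) gives type M(24).
-/

set_option autoImplicit false
set_option linter.unusedSectionVars false

namespace Cfsg.Agent.H41.FischerTop

open Cfsg
open H80.TTQuad (Cls)
open H93 (common rimg resSet Residue nb nb_symm)
open H7Fischer (Central res IsM22' IsM23')

universe u

variable {G : Type u} [Group G] [Finite G] {D : Set G}

/-- The orthogonal step holds. -/
theorem orthStep : OrthStep.{u} := fun H hC hconn _ _ hd _ _ _ hn hR =>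
  H97.Refl3.orth_three_step H hC hconn hd hn hR

/-- A residue of type M(22) gives type M(23). -/
theorem m22_step' (H : Cls D) (hC : Central D) (hconn : H7Fischer.Conn D) {d : G} (hd : d ∈ D)
    (hR : IsM22' (res D d)) : IsM23' D :=
  m22_step orthStep H hC hconn hd hR

/-- A residue of type M(23) gives type M(24). -/
theorem m23_step (H : Cls D) (hC : Central D) (hconn : H7Fischer.Conn D) {d : G} (hd : d ∈ D)
    (hR : IsM23' (res D d)) : Cfsg.IsOfTypeM24 G D := by
  have h := data24_of_res H hconn hd hR.1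
  obtain ⟨z, hz⟩ := h.core.edge d hd
  obtain ⟨f, hf, hn⟩ := h.core.nodom z hz.1 d (nb_symm hd hz)
  have hn' : ¬ Commute d f := fun q => hn q.symm
  have S : Set24 D d f z :=
    ⟨H, hC, hconn, ⟨d, hd, hR⟩, hd, hf.1, hn', hz, nb_symm hz.1 hf⟩
  obtain ⟨π, hπ, ⟨ek⟩⟩ := S.pomega_ext
  let e : ↥(Subgroup.closure (common D d f)) ⧸
      Subgroup.center ↥(Subgroup.closure (common D d f)) ≃* ↥(Subgroup.closure (common D d f)) :=
    (QuotientGroup.quotientMulEquivOfEq S.center_closure_common).trans QuotientGroup.quotientBot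
  let π' := π.comp e.toMonoidHom
  have hπ' : Function.Surjective π' := hπ.comp e.surjective
  have hmap : π'.ker.map e.toMonoidHom = π.ker := by
    ext g
    rw [Subgroup.mem_map_equiv, MonoidHom.mem_ker, MonoidHom.mem_ker]
    show π (e (e.symm g)) = 1 ↔ _
    rw [e.apply_symm_apply]
  refine ⟨H.center_eq_bot, d, hd, f, hf.1, hn', hR.1, π'.ker, MonoidHom.normal_ker π',
    ⟨((π'.ker.equivMapOfInjective e.toMonoidHom e.injective).trans
      (MulEquiv.subgroupCongr hmap)).trans ek⟩,
    ⟨QuotientGroup.quotientKerEquivOfSurjective π' hπ'⟩⟩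

end Cfsg.Agent.H41.FischerTop
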