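import Cfsg.Agent.H41.FischerTop.Pre
import Cfsg.Agent.H41.FischerTop.Frame

/-!
Fischer's theorem: no class has a residue of type M(24).  Eight pairwise commuting members in such a
configuration would have product one.
-/

set_option autoImplicit false
set_option linter.unusedSectionVars false

namespace Cfsg.Agent.H41.FischerTop

open Cfsg
open H93 (common rimg rimg_mem rimg_surj rimg_prod resSet Residue nbSub Sep mem_center_nbSub)
open H93 (nb nb_symm)
open H76.LocallyS3 (cj cj_cj cj_injective commute_cj_iff)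
open H80.TTQuad (Cls cj_inv_cj cj_cj_inv cj_eq_of_commute commute_of_cj_eq)
open H7Fischer (Central res)
open H61.M24 (Data24)

universe u

variable {G : Type u} [Group G] [Finite G] {D : Set G}

/-- In a residue of type M(24) a common slice contains eight pairwise commuting members. -/
theorem exists_eight {G' : Type u} [Group G'] [Finite G'] {E : Set G'} (h : Data24 E) :
    ∃ a b : G', ∃ l : List G', a ∈ E ∧ b ∈ E ∧ ¬ Commute a b ∧ l.length = 8 ∧ l.Nodup ∧
      (∀ y ∈ l, y ∈ common E a b) ∧ ∀ x ∈ l, ∀ y ∈ l, Commute x y := by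
  classical
  obtain ⟨z, hz⟩ := h.nonempty
  obtain ⟨a, ha⟩ := h.core.edge z hz
  obtain ⟨b, hb, hn⟩ := h.core.nodom z hz a ha
  have hn' : ¬ Commute a b := fun q => hn q.symm
  have hW := (h.res z hz).1
  have hnr : ¬ Commute (rimg E z a) (rimg E z b) := fun q => hn' ((h.core.rimg_comm ha hb).mp q)
  have bound : BddAbove {n : ℕ | ∃ S : Set (Residue E z),
      S ⊆ common (resSet E z) (rimg E z a) (rimg E z b) ∧ S.Finite ∧
        (∀ p ∈ S, ∀ q ∈ S, Commute p q) ∧ S.ncard = n} :=
    ⟨Nat.card (Residue E z), fun n ⟨S, _, _, _, e⟩ =>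
      e ▸ (Set.ncard_univ _ ▸ Set.ncard_le_ncard (Set.subset_univ S))⟩
  obtain ⟨S, hS, hSf, hc, h7⟩ := Nat.sSup_mem (s := {n : ℕ | ∃ S : Set (Residue E z),
      S ⊆ common (resSet E z) (rimg E z a) (rimg E z b) ∧ S.Finite ∧
        (∀ p ∈ S, ∀ q ∈ S, Commute p q) ∧ S.ncard = n})
    ⟨0, ∅, Set.empty_subset _, Set.finite_empty, by simp, by simp⟩ bound
  rw [show sSup _ = 7 from hW.width_seven (rimg_mem ha) (rimg_mem hb) hnr] at h7
  obtain ⟨l, hl, hlm⟩ := exists_lift_list (m := hSf.toFinset.toList) fun e he =>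
    ((hS (hSf.mem_toFinset.mp (Finset.mem_toList.mp he))).1).1
  have hmem : ∀ y ∈ l, rimg E z y ∈ S := fun y hy => by
    have : rimg E z y ∈ hSf.toFinset.toList := hlm ▸ List.mem_map_of_mem hy
    exact hSf.mem_toFinset.mp (Finset.mem_toList.mp this)
  refine ⟨a, b, z :: l, ha.1, hb.1, hn', ?_, ?_, ?_, ?_⟩
  · have := congrArg List.length hlm
    rw [List.length_map, Finset.length_toList, ← Set.ncard_eq_toFinset_card _ hSf, h7] at this
    simp [this]
  · refine List.nodup_cons.mpr ⟨fun hy => (hl z hy).2.1 rfl, List.Nodup.of_map (rimg E z) ?_⟩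
    rw [hlm]
    exact Finset.nodup_toList _
  · intro y hy
    rcases List.mem_cons.mp hy with rfl | hy
    · exact ⟨nb_symm hz ha, nb_symm hz hb⟩
    · exact (Core.mem_common_rimg h.core hz ha hb (hl y hy)).mp (hS (hmem y hy))
  · intro x hx y hy
    rcases List.mem_cons.mp hx with ex | hx <;> rcases List.mem_cons.mp hy with ey | hy
    · rw [ex, ey]
    · exact ex ▸ (hl y hy).2.2
    · exact ey ▸ (hl x hx).2.2.symm
    · exact (h.core.rimg_comm (hl x hx) (hl y hy)).mp (hc _ (hmem x hx) _ (hmem y hy))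

/-- The members commuting with a member separate their commuting pairs. -/
theorem sep_nb (H : Cls D) (hcore : H93.Core D) {d : G} (hd : d ∈ D) (hs : Sep (resSet D d)) :
    ∀ a ∈ D, Sep (nb D a) := by
  intro a ha u hu v hv hne hc
  obtain ⟨g, hg⟩ := H.exists_cj ha hd
  have hu' : cj g u ∈ nb D d := by rw [← hg]; exact H.cj_nb g hu
  have hv' : cj g v ∈ nb D d := by rw [← hg]; exact H.cj_nb g hv
  obtain ⟨w, hw, n1, n2⟩ := hs _ (rimg_mem hu') _ (rimg_mem hv')
    (fun e => hne (cj_injective g ((hcore.rimg_inj hd hu' hv').mp e)))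
    ((hcore.rimg_comm hu' hv').mpr (commute_cj_iff.2 hc))
  obtain ⟨y, hy, rfl⟩ := rimg_surj hw
  refine ⟨cj g⁻¹ y, ?_, fun q => n1 ((hcore.rimg_comm hy hu').mpr ?_),
    fun q => n2 ((hcore.rimg_comm hy hv').mpr ?_)⟩
  · have := H.cj_nb g⁻¹ hy
    rwa [← hg, cj_inv_cj] at this
  · have := (commute_cj_iff (g := g)).2 q
    rwa [cj_cj_inv] at this
  · have := (commute_cj_iff (g := g)).2 q
    rwa [cj_cj_inv] at this

/-- A product of neighbours with trivial image commutes with the neighbours. -/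
theorem commute_prod {d : G} {l : List G} (hl : ∀ y ∈ l, y ∈ nb D d)
    (himg : (l.map (rimg D d)).prod = 1) : ∀ v ∈ nb D d, Commute l.prod v := fun v hv => by
  obtain ⟨hm, e⟩ := rimg_prod hl
  exact (mem_center_nbSub.mp ((QuotientGroup.eq_one_iff _).mp (e.trans himg)) v hv).symm

/-- A relation of length eight at a member of a residue, in a class whose residue is of type
M(24): it is trivial in the residue. -/
theorem eight_trivial {E : Set G} (hE : Data24 E) {s : G} (hs : s ∈ E) {l : List G}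
    (hlen : l.length = 8) (hnd : l.Nodup) (hmem : ∀ y ∈ l, y ∈ nb E s)
    (hcom : ∀ x ∈ l, ∀ y ∈ l, Commute x y) (hk : ∀ v ∈ nb E s, Commute l.prod v) :
    l.prod = 1 := by
  classical
  have hW := (hE.res s hs).2
  obtain ⟨hm, e⟩ := rimg_prod hmem
  have himg : (l.map (rimg E s)).prod = 1 := by
    rw [← e, QuotientGroup.eq_one_iff, mem_center_nbSub]
    exact fun v hv => (hk v hv).symm
  obtain ⟨A, B, C, hAB, hA, hB, hC, ndAC, ndBC, hCD, hcomABC, pAC, pBC⟩ := split_eight hW
    (l := l.map (rimg E s)) (by simpa using hlen) (Core.map_rimg_nodup hE.core hs hmem hnd)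
    (fun e he => by
      obtain ⟨y, hy, rfl⟩ := List.mem_map.mp he
      exact rimg_mem (hmem y hy))
    (Core.map_rimg_commute hE.core hmem hcom) himg
  obtain ⟨lA, lB, rfl, eA, eB⟩ : ∃ lA lB, l = lA ++ lB ∧ lA.map (rimg E s) = A ∧
      lB.map (rimg E s) = B :=
    ⟨l.take 4, l.drop 4, (List.take_append_drop 4 l).symm,
      by rw [List.map_take, ← hAB, List.take_left' hA],
      by rw [List.map_drop, ← hAB, List.drop_left' hA]⟩
  obtain ⟨lC, hlC, eC⟩ := exists_lift_list hCD
  subst eA eB eC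
  have hsub : ∀ y ∈ lA ++ lB ++ lC, y ∈ nb E s := fun y hy =>
    (List.mem_append.mp hy).elim (hmem y) (hlC y)
  have hcomU : ∀ x ∈ lA ++ lB ++ lC, ∀ y ∈ lA ++ lB ++ lC, Commute x y := fun x hx y hy =>
    (hE.core.rimg_comm (hsub x hx) (hsub y hy)).mp (hcomABC _
      (by rw [← List.map_append, ← List.map_append]; exact List.mem_map_of_mem hx) _
      (by rw [← List.map_append, ← List.map_append]; exact List.mem_map_of_mem hy))
  have seven : ∀ {L : List G}, (∀ y ∈ L, y ∈ lA ++ lB ++ lC) → (L.map (rimg E s)).Nodup →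
      L.length = 7 → (L.map (rimg E s)).prod = 1 → L.prod = s := fun {L} hL hn hl7 hp =>
    prod_next (fun g hg e => hE.center_two hs hg e) hE.ind (fun e => by simp [e] at hl7)
      (List.Nodup.of_map _ hn) hl7.le (fun y hy => hsub y (hL y hy))
      (fun x hx y hy => hcomU x (hL x hx) y (hL y hy)) hp
  rw [List.length_map] at hA hB hC
  have e1 := seven (L := lA ++ lC) (fun y hy => by simp only [List.mem_append] at hy ⊢; tauto)
    (by rwa [List.map_append]) (by simp [hA, hC]) (by rwa [List.map_append])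
  have e2 := seven (L := lB ++ lC) (fun y hy => by simp only [List.mem_append] at hy ⊢; tauto)
    (by rwa [List.map_append]) (by simp [hB, hC]) (by rwa [List.map_append])
  rw [List.prod_append] at e1 e2
  have hab : lA.prod = lB.prod := mul_right_cancel (e1.trans e2.symm)
  rw [List.prod_append, hab]
  exact H93.prod_sq_one hE.core.tt lB
    (fun y hy => (hsub y (List.mem_append_left _ (List.mem_append_right _ hy))).1)
    fun x hx y hy => hcomU x (List.mem_append_left _ (List.mem_append_right _ hx)) y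
      (List.mem_append_left _ (List.mem_append_right _ hy))

/-- No residue is of type M(24). -/
theorem m24_step (H : Cls D) (hC : Central D) (hconn : H7Fischer.Conn D) {d : G} (hd : d ∈ D)
    (hRc : H7Fischer.Conn (res D d)) (hR : Cfsg.IsOfTypeM24 (Residue D d) (res D d)) : False := by
  classical
  obtain ⟨hcore, hind⟩ := indep24 H hd hR
  have HR := H7Fischer.res_cls H hC hd
  obtain ⟨-, d0, hd0, c0, -, -, h23, -⟩ := hR
  have hR4 := data24_of_res HR hRc hd0 h23
  have hsepR : Sep (resSet D d) := by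
    obtain ⟨hrc, -, hrs, -⟩ := H93.good23 (H93.tt_resSet (tt_of_cls HR) hd0)
      (H93.closure_resSet d0) (H93.resSet_ne_one hR4.core hd0) h23
    exact H93.sep_step hR4.core hd0 hrc hrs
  have hsep := sep_nb H hcore hd hsepR
  obtain ⟨a', b', m, ha', hb', hn', hm8, hmnd, hmc, hmcom⟩ := exists_eight hR4
  obtain ⟨a0, ha0, rfl⟩ := rimg_surj ha'
  obtain ⟨b0, hb0, rfl⟩ := rimg_surj hb'
  obtain ⟨l, hl, rfl⟩ := exists_lift_list fun e he => (hmc e he).1.1
  have hn0 : ¬ Commute a0 b0 := fun q => hn' ((hcore.rimg_comm ha0 hb0).mpr q)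
  have hlc : ∀ y ∈ l, y ∈ common D a0 b0 := fun y hy =>
    (Core.mem_common_rimg hcore hd ha0 hb0 (hl y hy)).mp (hmc _ (List.mem_map_of_mem hy))
  have hlcom : ∀ x ∈ l, ∀ y ∈ l, Commute x y := fun x hx y hy =>
    (hcore.rimg_comm (hl x hx) (hl y hy)).mp
      (hmcom _ (List.mem_map_of_mem hx) _ (List.mem_map_of_mem hy))
  have hlnd : l.Nodup := List.Nodup.of_map _ hmnd
  have hk0 : ∀ v ∈ nb D d, Commute l.prod v :=
    commute_prod hl (prod_eight hR4 ha' hb' hn' hm8 hmnd hmc hmcom)
  rw [List.length_map] at hm8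
  -- move the configuration so that `a0` becomes `d`
  obtain ⟨g, hg⟩ := H.exists_cj ha0.1 hd
  set l' := l.map (cj g) with hl'
  set s := cj g d
  have hprod : l'.prod = cj g l.prod := by
    rw [hl', show cj g l.prod = MulAut.conj g l.prod from rfl, map_list_prod]
    rfl
  have hs : s ∈ nb D d := by
    have := H.cj_nb g (nb_symm hd ha0)
    rwa [hg] at this
  have hl'd : ∀ y ∈ l', y ∈ nb D d := by
    intro y hy
    obtain ⟨x, hx, rfl⟩ := List.mem_map.mp hy
    have := H.cj_nb g (hlc x hx).1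
    rwa [hg] at this
  have hl's : ∀ y ∈ l', y ∈ nb D s := by
    intro y hy
    obtain ⟨x, hx, rfl⟩ := List.mem_map.mp hy
    exact H.cj_nb g (hl x hx)
  have hl'com : ∀ x ∈ l', ∀ y ∈ l', Commute x y := by
    intro x hx y hy
    obtain ⟨p, hp, rfl⟩ := List.mem_map.mp hx
    obtain ⟨q, hq, rfl⟩ := List.mem_map.mp hy
    exact commute_cj_iff.2 (hlcom p hp q hq)
  have hl'nd : l'.Nodup := hlnd.map (cj_injective g)
  have hl'len : l'.length = 8 := by rw [hl', List.length_map]; exact hm8
  have hks : ∀ v ∈ nb D s, Commute l'.prod v := by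
    intro v hv
    have hv' : cj g⁻¹ v ∈ nb D d := by
      have := H.cj_nb g⁻¹ hv
      rwa [cj_inv_cj] at this
    have := (commute_cj_iff (g := g)).2 (hk0 _ hv')
    rwa [← hprod, cj_cj_inv] at this
  -- its image in the residue at `d` is trivial
  have hkd : ∀ v ∈ nb D d, Commute l'.prod v := by
    refine commute_prod hl'd (eight_trivial hR4 (rimg_mem hs) (l := l'.map (rimg D d))
      (by simpa using hl'len) (Core.map_rimg_nodup hcore hd hl'd hl'nd) ?_
      (Core.map_rimg_commute hcore hl'd hl'com) ?_)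
    · intro e he
      obtain ⟨y, hy, rfl⟩ := List.mem_map.mp he
      exact hcore.rimg_nb hd hs ⟨hl'd y hy, hl's y hy⟩
    · intro e he
      obtain ⟨v, hv, rfl⟩ := hcore.rimg_nb_surj hd hs he
      obtain ⟨hm, em⟩ := rimg_prod hl'd
      rw [← em, H93.rimg_eq hv.1]
      exact congrArg QuotientGroup.mk (Subtype.ext (hks v hv.2).eq :
        (⟨l'.prod, hm⟩ : ↥(nbSub D d)) * H93.nbElem hv.1 = H93.nbElem hv.1 * ⟨l'.prod, hm⟩)
  have hcd : Commute l'.prod d :=
    (Commute.list_prod_right _ _ fun y hy => (hl'd y hy).2.2).symm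
  have hone : l'.prod = 1 := H.eq_one_of_fix fun t ht =>
    H93.fix_of_two hcore (conn_of_graph hconn) hsep (φ := MulAut.conj l'.prod) hd hs
      (cj_eq_of_commute hcd) (fun v hv => cj_eq_of_commute (hkd v hv))
      (fun v hv => cj_eq_of_commute (hks v hv)) t ht
  exact hind l' hl'nd (fun e => by simp [e] at hl'len) hl'len.le (fun y hy => (hl'd y hy).1)
    hl'com hone

end Cfsg.Agent.H41.FischerTop
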