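import Cfsg.Agent.H7Fischer.Residue
import Cfsg.Agent.H80.TTFischer.Loc
import Cfsg.Agent.H93.Res23

/-!
Fischer's theorem: bijections of sets of members respecting conjugation, and what they carry to the
residues and to the sections generated by such sets.
-/

set_option autoImplicit false
set_option linter.unusedSectionVars false

namespace Cfsg.Agent.H41.FischerTop

open Cfsg
open H76.LocallyS3 (nb cj cj_cj cj_injective commute_cj_iff)
open H80.TTQuad (Cls cj_one cj_inv_cj cj_cj_inv cj_eq_of_commute commute_of_cj_eq nb_symm)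
open H80.TTFischer (Reduced)
open H93 (nbSub Residue rimg rimg_eq)
open H7Fischer (IsoTo CentralAt Central res)

universe u v w

variable {G : Type u} [Group G] {G' : Type v} [Group G'] {G'' : Type w} [Group G'']

/-- A bijection respecting conjugation. -/
structure EqBij (A : Set G) (B : Set G') (f : G → G') : Prop where
  maps : ∀ a ∈ A, f a ∈ B
  inj : ∀ a ∈ A, ∀ b ∈ A, f a = f b → a = b
  surj : ∀ b ∈ B, ∃ a ∈ A, f a = b
  closed : ∀ a ∈ A, ∀ b ∈ A, cj a b ∈ A
  map_cj : ∀ a ∈ A, ∀ b ∈ A, f (cj a b) = cj (f a) (f b)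

namespace EqBij

variable {A : Set G} {B : Set G'} {C : Set G''} {f : G → G'}

theorem trans {g : G' → G''} (h : EqBij A B f) (h' : EqBij B C g) : EqBij A C fun x => g (f x) where
  maps a ha := h'.maps _ (h.maps a ha)
  inj a ha b hb e := h.inj a ha b hb (h'.inj _ (h.maps a ha) _ (h.maps b hb) e)
  surj c hc := by
    obtain ⟨b, hb, rfl⟩ := h'.surj c hc
    obtain ⟨a, ha, rfl⟩ := h.surj b hb
    exact ⟨a, ha, rfl⟩
  closed := h.closed
  map_cj a ha b hb := by rw [h.map_cj a ha b hb, h'.map_cj _ (h.maps a ha) _ (h.maps b hb)]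

theorem closed' (h : EqBij A B f) : ∀ a ∈ B, ∀ b ∈ B, cj a b ∈ B := by
  intro a ha b hb
  obtain ⟨a, ha', rfl⟩ := h.surj a ha
  obtain ⟨b, hb', rfl⟩ := h.surj b hb
  rw [← h.map_cj a ha' b hb']
  exact h.maps _ (h.closed a ha' b hb')

theorem symm (h : EqBij A B f) : ∃ g : G' → G, EqBij B A g ∧ ∀ a ∈ A, g (f a) = a := by
  classical
  refine ⟨fun b => if hb : b ∈ B then (h.surj b hb).choose else 1, ?_, fun a ha => ?_⟩
  · have key : ∀ b (hb : b ∈ B), (h.surj b hb).choose ∈ A ∧ f (h.surj b hb).choose = b :=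
      fun b hb => (h.surj b hb).choose_spec
    refine ⟨fun b hb => by simp only [dif_pos hb]; exact (key b hb).1, fun a ha b hb e => ?_,
      fun a ha => ⟨f a, h.maps a ha, ?_⟩, h.closed', fun a ha b hb => ?_⟩
    · simp only [dif_pos ha, dif_pos hb] at e
      rw [← (key a ha).2, e, (key b hb).2]
    · simp only [dif_pos (h.maps a ha)]
      exact h.inj _ (key _ (h.maps a ha)).1 a ha (key _ (h.maps a ha)).2
    · simp only [dif_pos (h.closed' a ha b hb), dif_pos ha, dif_pos hb]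
      refine h.inj _ (key _ (h.closed' a ha b hb)).1 _ (h.closed _ (key a ha).1 _ (key b hb).1) ?_
      rw [h.map_cj _ (key a ha).1 _ (key b hb).1, (key _ (h.closed' a ha b hb)).2, (key a ha).2,
        (key b hb).2]
  · simp only [dif_pos (h.maps a ha)]
    exact h.inj _ (h.surj _ (h.maps a ha)).choose_spec.1 a ha (h.surj _ (h.maps a ha)).choose_spec.2

theorem commute (h : EqBij A B f) {a b : G} (ha : a ∈ A) (hb : b ∈ A) :
    Commute (f a) (f b) ↔ Commute a b := by
  constructor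
  · intro hc
    refine commute_of_cj_eq (h.inj _ (h.closed a ha b hb) b hb ?_)
    rw [h.map_cj a ha b hb, cj_eq_of_commute hc]
  · intro hc
    refine commute_of_cj_eq ?_
    rw [← h.map_cj a ha b hb, cj_eq_of_commute hc]

/-- restricted to the members at a member -/
theorem restr_nb (h : EqBij A B f) {t : G} (ht : t ∈ A) : EqBij (nb A t) (nb B (f t)) f where
  maps a ha := ⟨h.maps a ha.1, fun e => ha.2.1 (h.inj a ha.1 t ht e), (h.commute ht ha.1).2 ha.2.2⟩
  inj a ha b hb := h.inj a ha.1 b hb.1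
  surj b hb := by
    obtain ⟨a, ha, rfl⟩ := h.surj b hb.1
    exact ⟨a, ⟨ha, fun e => hb.2.1 (by rw [e]), (h.commute ht ha).1 hb.2.2⟩, rfl⟩
  closed a ha b hb := by
    refine ⟨h.closed a ha.1 b hb.1, fun e => hb.2.1 (cj_injective a ?_), ?_⟩
    · rw [e, cj_eq_of_commute ha.2.2.symm]
    · have := (commute_cj_iff (g := a)).2 hb.2.2
      rwa [cj_eq_of_commute ha.2.2.symm] at this
  map_cj a ha b hb := h.map_cj a ha.1 b hb.1

/-- restricted to a subset described through the map -/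
theorem restr (h : EqBij A B f) {B' : Set G'} (hB : B' ⊆ B)
    (hcl : ∀ a ∈ B', ∀ b ∈ B', cj a b ∈ B') : EqBij {a | a ∈ A ∧ f a ∈ B'} B' f where
  maps a ha := ha.2
  inj a ha b hb := h.inj a ha.1 b hb.1
  surj b hb := by
    obtain ⟨a, ha, rfl⟩ := h.surj b (hB hb)
    exact ⟨a, ⟨ha, hb⟩, rfl⟩
  closed a ha b hb :=
    ⟨h.closed a ha.1 b hb.1, by rw [h.map_cj a ha.1 b hb.1]; exact hcl _ ha.2 _ hb.2⟩
  map_cj a ha b hb := h.map_cj a ha.1 b hb.1

variable [Finite G]

/-- The bijection extends to the generated groups. -/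
theorem exists_hom (h : EqBij A B f) (hsq : ∀ a ∈ A, a * a = 1) (H' : Cls B) :
    ∃ φ : ↥(Subgroup.closure A) →* G', Function.Surjective φ ∧
      ∀ a (ha : a ∈ A), φ ⟨a, Subgroup.subset_closure ha⟩ = f a := by
  let Γ : Subgroup (G × G') := Subgroup.closure {p | ∃ a ∈ A, p = (a, f a)}
  have hP : ∀ p ∈ Γ, ∀ z ∈ A, cj p.1 z ∈ A ∧ f (cj p.1 z) = cj p.2 (f z) := by
    intro p hp
    refine Subgroup.closure_induction_left
      (p := fun p _ => ∀ z ∈ A, cj p.1 z ∈ A ∧ f (cj p.1 z) = cj p.2 (f z)) ?_ ?_ ?_ hp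
    · intro z hz
      simp only [Prod.fst_one, Prod.snd_one, cj_one]
      exact ⟨hz, trivial⟩
    · rintro _ ⟨a, ha, rfl⟩ q _ ih z hz
      obtain ⟨h1, h2⟩ := ih z hz
      simp only [Prod.fst_mul, Prod.snd_mul, ← cj_cj]
      exact ⟨h.closed a ha _ h1, by rw [h.map_cj a ha _ h1, h2]⟩
    · rintro _ ⟨a, ha, rfl⟩ q _ ih z hz
      obtain ⟨h1, h2⟩ := ih z hz
      simp only [Prod.fst_mul, Prod.snd_mul, Prod.fst_inv, Prod.snd_inv,
        inv_eq_of_mul_eq_one_left (hsq a ha), H'.inv' (h.maps a ha), ← cj_cj]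
      exact ⟨h.closed a ha _ h1, by rw [h.map_cj a ha _ h1, h2]⟩
  have hle : Γ ≤ (Subgroup.closure A).comap (MonoidHom.fst G G') := by
    rw [Subgroup.closure_le]
    rintro _ ⟨a, ha, rfl⟩
    exact Subgroup.subset_closure ha
  let p1 : ↥Γ →* ↥(Subgroup.closure A) :=
    ((MonoidHom.fst G G').comp Γ.subtype).codRestrict _ fun q => hle q.2
  have hinj : Function.Injective p1 := by
    refine (injective_iff_map_eq_one _).2 fun q hq => ?_
    have hq1 : q.1.1 = 1 := congrArg Subtype.val hq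
    have hq2 : q.1.2 = 1 := H'.eq_one_of_fix fun d hd => by
      obtain ⟨z, hz, rfl⟩ := h.surj d hd
      obtain ⟨-, e⟩ := hP _ q.2 z hz
      rw [hq1, cj_one] at e
      exact e.symm
    exact Subtype.ext (Prod.ext hq1 hq2)
  have hsurj : Function.Surjective p1 := by
    rintro ⟨g, hg⟩
    have : Subgroup.closure A ≤ Γ.map (MonoidHom.fst G G') := by
      rw [Subgroup.closure_le]
      exact fun a ha => ⟨(a, f a), Subgroup.subset_closure ⟨a, ha, rfl⟩, rfl⟩
    obtain ⟨q, hq, e⟩ := this hg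
    exact ⟨⟨q, hq⟩, Subtype.ext e⟩
  let e1 := MulEquiv.ofBijective p1 ⟨hinj, hsurj⟩
  refine ⟨((MonoidHom.snd G G').comp Γ.subtype).comp e1.symm.toMonoidHom, ?_, fun a ha => ?_⟩
  · rw [← MonoidHom.range_eq_top, eq_top_iff, ← H'.cl.2.2, Subgroup.closure_le]
    intro b hb
    obtain ⟨a, ha, rfl⟩ := h.surj b hb
    refine ⟨e1 ⟨(a, f a), Subgroup.subset_closure ⟨a, ha, rfl⟩⟩, ?_⟩
    simp
  · have : e1.symm ⟨a, Subgroup.subset_closure ha⟩ =
        ⟨(a, f a), Subgroup.subset_closure ⟨a, ha, rfl⟩⟩ := e1.symm_apply_eq.2 rfl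
    simp only [MonoidHom.coe_comp, MulEquiv.coe_toMonoidHom, Function.comp_apply, this]
    rfl

/-- A set in bijection with a class without solvable normal subgroups is reduced. -/
theorem reduced (h : EqBij A B f) (hsq : ∀ a ∈ A, a * a = 1) (H' : Cls B) : Reduced A := by
  intro N hle hn hs a ha b hb hab
  obtain ⟨φ, hφ, hφa⟩ := h.exists_hom hsq H'
  haveI : (N.subgroupOf (Subgroup.closure A)).Normal :=
    ⟨fun n hn' g => hn g.1 g.2 n.1 hn'⟩
  have hsol : Group.IsSolvable ↥((N.subgroupOf (Subgroup.closure A)).map φ) := by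
    haveI : Group.IsSolvable ↥(N.subgroupOf (Subgroup.closure A)) :=
      Group.isSolvable_of_isSolvable_injective
        (f := (Subgroup.subgroupOfEquivOfLe hle).toMonoidHom)
        (Subgroup.subgroupOfEquivOfLe hle).injective
    exact Group.isSolvable_of_surjective (MonoidHom.subgroupMap_surjective φ _)
  have hbot := H'.sol _ (Subgroup.Normal.map inferInstance φ hφ) hsol
  have h1 : φ (⟨a, Subgroup.subset_closure ha⟩ * ⟨b, Subgroup.subset_closure hb⟩) = 1 :=
    Subgroup.mem_bot.1 (hbot ▸ Subgroup.mem_map_of_mem φ (show _ ∈ N.subgroupOf _ from hab))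
  rw [map_mul, hφa a ha, hφa b hb] at h1
  refine h.inj a ha b hb ?_
  rw [eq_inv_of_mul_eq_one_left h1, H'.inv' (h.maps b hb)]

/-- A bijection of two classes gives an isomorphism of pairs. -/
theorem isoTo (h : EqBij A B f) (H : Cls A) (H' : Cls B) : IsoTo A B := by
  refine H7Fischer.isoTo_of_equivariant H.cl.2.2 H'.cl.2.2 (fun g hg => H.eq_one_of_fix hg)
    (fun g hg => H'.eq_one_of_fix hg) (fun a ha => H.sq ha) (fun a ha => H'.sq ha) h.closed
    (Equiv.ofBijective (fun a : ↥A => (⟨f a, h.maps a a.2⟩ : ↥B))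
      ⟨fun a b e => Subtype.ext (h.inj a a.2 b b.2 (congrArg Subtype.val e)), fun b => by
        obtain ⟨a, ha, e⟩ := h.surj b b.2
        exact ⟨⟨a, ha⟩, Subtype.ext e⟩⟩)
    fun a b => h.map_cj a a.2 b b.2

end EqBij

/-- conjugation -/
theorem eqBij_cj {A : Set G} (g : G) (hcl : ∀ a ∈ A, ∀ b ∈ A, cj a b ∈ A) :
    EqBij A (cj g '' A) (cj g) where
  maps a ha := ⟨a, ha, rfl⟩
  inj a _ b _ e := cj_injective g e
  surj := by rintro _ ⟨a, ha, rfl⟩; exact ⟨a, ha, rfl⟩
  closed := hcl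
  map_cj a _ b _ := by simp only [cj]; group

/-! ### the image in the section -/

open Classical in
/-- the image of a member in the group generated by the set, modulo the centre -/
noncomputable def bar (T : Set G) (y : G) : H80.TTFischer.Local.Quot T :=
  if h : y ∈ T then
    QuotientGroup.mk (⟨y, Subgroup.subset_closure h⟩ : ↥(Subgroup.closure T)) else 1

theorem bar_eq {T : Set G} {y : G} (h : y ∈ T) :
    bar T y = H80.TTFischer.Local.bar ⟨y, h⟩ := dif_pos h

theorem eqBij_bar {T : Set G} (hcl : ∀ a ∈ T, ∀ b ∈ T, cj a b ∈ T)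
    (hinj : ∀ a ∈ T, ∀ b ∈ T, bar T a = bar T b → a = b) :
    EqBij T (H80.TTFischer.Local.image T) (bar T) where
  maps a ha := by rw [bar_eq ha]; exact ⟨_, ha, rfl⟩
  inj := hinj
  surj := by
    rintro _ ⟨⟨y, hy'⟩, hy, rfl⟩
    exact ⟨y, hy, bar_eq (T := T) (show y ∈ T from hy)⟩
  closed := hcl
  map_cj a ha b hb := by
    rw [bar_eq ha, bar_eq hb, bar_eq (hcl a ha b hb)]
    rfl

theorem bar_inj_of_center {T : Set G} (hZ : Subgroup.center ↥(Subgroup.closure T) = ⊥)
    {a b : G} (ha : a ∈ T) (hb : b ∈ T) (e : bar T a = bar T b) : a = b := by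
  rw [bar_eq ha, bar_eq hb] at e
  have := QuotientGroup.eq.1 e
  rw [hZ, Subgroup.mem_bot, inv_mul_eq_one] at this
  exact congrArg Subtype.val this

theorem eqBij_bar_local {T : Set G} (hT : H80.TTFischer.Local T) :
    EqBij T (H80.TTFischer.Local.image T) (bar T) :=
  eqBij_bar hT.closed fun a ha b hb e => by
    rw [bar_eq ha, bar_eq hb] at e
    exact congrArg Subtype.val (hT.bar_injective e)

/-! ### residues -/

variable [Finite G] [Finite G'] {D : Set G} {D' : Set G'} {f : G → G'}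

theorem pCore_eq_bot (H : Cls D) (p : ℕ) [Fact p.Prime] : Cfsg.pCore p G = ⊥ := by
  haveI : (Cfsg.pCore p G).Normal := Subgroup.sSup_normal _ fun _ h => h.1
  haveI : Group.IsNilpotent ↥(Cfsg.pCore p G) := (Components.isPGroup_pCore p).isNilpotent
  exact H.sol _ inferInstance inferInstance

/-- A class without solvable normal subgroups has no twins, so neither has a member whose
neighbours are in bijection with one. -/
theorem centralAt (H : Cls D) {d : G} (hd : d ∈ D) (h : EqBij (nb D d) D' f) (H' : Cls D') :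
    CentralAt D d := by
  obtain ⟨a, ha⟩ := H.nb_nonempty hd
  obtain ⟨b, hb, hab⟩ := H.exists_noncommute_nb hd ha
  have h2 : ∃ x ∈ D', ∃ y ∈ D', x ≠ y :=
    ⟨f a, h.maps a ha, f b, h.maps b hb, fun e => hab ((h.inj a ha b hb e) ▸ Commute.refl a)⟩
  haveI : Fact (Nat.Prime 2) := ⟨Nat.prime_two⟩
  haveI : Fact (Nat.Prime 3) := ⟨Nat.prime_three⟩
  constructor
  · refine (H7Fischer.noTwin_iff H hd).2 fun y hy y' hy' hyy => h.inj _ hy' _ hy ?_
    refine Components.eq_of_twin H'.cl h2 (by rw [pCore_eq_bot H' 2]; exact bot_le)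
      (h.maps y hy) (h.maps y' hy') fun e he => ?_
    obtain ⟨z, hz, rfl⟩ := h.surj e he
    rw [h.commute hy' hz, h.commute hy hz]
    exact hyy z hz
  · refine (H7Fischer.noSameNb_iff H hd).2 fun y hy y' hy' hyy => h.inj _ hy' _ hy ?_
    refine Components.eq_of_ttNb Components.zStarTheorem H'.cl
      (by rw [pCore_eq_bot H' 3]; exact bot_le) (h.maps y hy) (h.maps y' hy') (Set.ext fun e => ?_)
    constructor
    · rintro ⟨he, hne, hc⟩
      obtain ⟨z, hz, rfl⟩ := h.surj e he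
      obtain ⟨h1, h2⟩ := (hyy z hz).2 ⟨fun q => hne (by rw [q]), (h.commute hy hz).1 hc⟩
      exact ⟨he, fun q => h1 (h.inj z hz y' hy' q), (h.commute hy' hz).2 h2⟩
    · rintro ⟨he, hne, hc⟩
      obtain ⟨z, hz, rfl⟩ := h.surj e he
      obtain ⟨h1, h2⟩ := (hyy z hz).1 ⟨fun q => hne (by rw [q]), (h.commute hy' hz).1 hc⟩
      exact ⟨he, fun q => h1 (h.inj z hz y hy q), (h.commute hy hz).2 h2⟩

theorem nb_closed (H : Cls D) {d : G} : ∀ a ∈ nb D d, ∀ b ∈ nb D d, cj a b ∈ nb D d :=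
  fun _ ha _ hb => H.cj_mem_nb ha.2.2.symm hb

theorem eqBij_rimg (H : Cls D) (hC : Central D) {d : G} (hd : d ∈ D) :
    EqBij (nb D d) (res D d) (rimg D d) where
  maps a ha := H93.rimg_mem ha
  inj a ha b hb e := H7Fischer.rmk_inj H hC hd ha hb (by rw [rimg_eq ha, rimg_eq hb] at e; exact e)
  surj b hb := by
    obtain ⟨y, hy, e⟩ := H93.rimg_surj hb
    exact ⟨y, hy, e⟩
  closed := nb_closed H
  map_cj a ha b hb := by
    rw [rimg_eq ha, rimg_eq hb, rimg_eq (nb_closed H a ha b hb)]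
    exact H7Fischer.rmk_cj H ha hb

/-- The residue of a member whose neighbours are in bijection with a class. -/
theorem res_isoTo (H : Cls D) (hC : Central D) {d : G} (hd : d ∈ D) (h : EqBij (nb D d) D' f)
    (H' : Cls D') : IsoTo (res D d) D' := by
  obtain ⟨g, hg, -⟩ := (eqBij_rimg H hC hd).symm
  exact (hg.trans h).isoTo (H7Fischer.res_cls H hC hd) H'

end Cfsg.Agent.H41.FischerTop
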