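import Cfsg.Agent.H41.FischerTop.M23Step
import Cfsg.Agent.H7Fischer.Main

/-!
Fischer's theorem: the step hypothesis of the main induction holds.
-/

set_option autoImplicit false

namespace Cfsg.Agent.H41.FischerTop

universe u

theorem m23Step : H7Fischer.M23Step.{u} := fun H hC hconn _ _ hd hR => m23_step H hC hconn hd hR

end Cfsg.Agent.H41.FischerTop
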