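import Cfsg.Agent.H41.FischerTop.Comp24

/-!
Fischer's theorem, residues of type M(23): the neighbours of one member of a pair that commute with
no member of a component of the common neighbours are the two other components.
-/

set_option autoImplicit false
set_option linter.unusedSectionVars false

namespace Cfsg.Agent.H41.FischerTop

open Cfsg
open H76.LocallyS3 (cj cj_cj cj_injective commute_cj_iff)
open H80.TTQuad (Cls cj_one cj_inv_cj cj_cj_inv cj_eq_of_commute commute_of_cj_eq)
open H93 (common rimg rimg_eq rimg_mem rimg_surj resSet Residue Geo23 nb nb_symm)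
open H7Fischer (Central res IsM23')
open H61.M24 (Data24 moments)

universe u

/-- The standing hypotheses: residues of type M(23), a pair that does not commute, and one of its
common neighbours. -/
structure Set24 {G : Type u} [Group G] [Finite G] (D : Set G) (x f s : G) : Prop where
  H : Cls D
  hC : Central D
  hconn : H7Fischer.Conn D
  res : ∃ d ∈ D, IsM23' (res D d)
  hx : x ∈ D
  hf : f ∈ D
  hn : ¬ Commute x f
  hs : s ∈ common D x f

/-- The neighbours of `f` commuting with no member of the component. -/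
def zset {G : Type u} [Group G] (D : Set G) (x f s : G) : Set G :=
  {y | y ∈ nb D f ∧ ∀ a ∈ comp D x f s, ¬ Commute y a}

variable {G : Type u} [Group G] [Finite G] {D : Set G} {x f s : G}

namespace Set24

variable (h : Set24 D x f s)

include h

theorem data : Data24 D := by
  obtain ⟨d, hd, hR⟩ := h.res
  exact data24_of_res h.H h.hconn hd hR.1

theorem counts :
    (comp D x f s).ncard = 1080 ∧
    (∀ a ∈ comp D x f s, (comp D x f s ∩ nb D a).ncard = 351) ∧
    (∀ a ∈ comp D x f s, ∀ b ∈ comp D x f s ∩ nb D a,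
      (comp D x f s ∩ (nb D a ∩ nb D b)).ncard = 126) ∧
    ∀ a ∈ comp D x f s, ∀ b ∈ comp D x f s, ¬ Commute a b →
      (comp D x f s ∩ (nb D a ∩ nb D b)).ncard = 108 := by
  obtain ⟨d, hd, hR⟩ := h.res
  exact comp_counts h.H h.hC h.hconn hd hR h.hx h.hf h.hn h.hs

theorem localS : H80.TTFischer.Local (comp D x f s) := by
  obtain ⟨d, hd, hR⟩ := h.res
  exact comp_local h.H h.hC h.hconn hd hR h.hx h.hf h.hn h.hs

theorem at_member {t : G} (ht : t ∈ common D x f) : Set24 D x f t :=
  ⟨h.H, h.hC, h.hconn, h.res, h.hx, h.hf, h.hn, ht⟩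

/-- A member meets none or at least 120 members of the component. -/
theorem meet_bound {y : G} (hy : y ∈ nb D f) (hyS : y ∉ comp D x f s)
    (hpos : (comp D x f s ∩ nb D y).Nonempty) : 120 ≤ (comp D x f s ∩ nb D y).ncard := by
  classical
  haveI := Fintype.ofFinite G
  obtain ⟨h1080, h351, h126, h108⟩ := h.counts
  have hd := h.data
  set S := comp D x f s with hSdef
  have hyx : ¬ Commute x y := fun c => by
    obtain ⟨a, ha, hay⟩ := hpos
    exact hyS (comp_adj ha ⟨⟨hy.1, fun e => h.hn (e ▸ hy.2.2.symm), c⟩, hy⟩ hay.2.2.symm)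
  let P := S.toFinset
  let A := (S ∩ nb D y).toFinset
  let R : G → G → Prop := fun r g => g ∈ nb D r
  have toSet : ∀ (T : Set G) [Fintype ↥T] (p : G → Prop) [DecidablePred p],
      (T.toFinset.filter p).card = {v | v ∈ T ∧ p v}.ncard := fun T _ p _ => by
    rw [← Set.ncard_coe_finset]
    congr 1
    ext v
    simp
  have hAP : A ⊆ P := fun r hr => Set.mem_toFinset.mpr (Set.mem_toFinset.mp hr).1
  have h63 : ∀ r ∈ S ∩ nb D y, ((S ∩ nb D y) ∩ nb D r).ncard = 63 := by
    rintro r ⟨hr, hry⟩
    have rD := hr.1.1.1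
    have xr := nb_symm h.hx hr.1.1
    have fr := nb_symm h.hf hr.1.2
    have yr := nb_symm hy.1 hry
    rw [← slice_far (hd.res r rD).1 (rimg_mem xr) (rimg_mem fr)
      (fun q => h.hn ((hd.core.rimg_comm xr fr).mp q)) (hd.core.rimg_nb rD fr ⟨yr, hy⟩)
      (fun q => hyx ((hd.core.rimg_comm xr yr).mp q))]
    refine Set.BijOn.ncard_eq (f := rimg D r)
      ⟨fun v hv => ⟨(hd.core.res_mem_common rD xr fr hv.2).mpr hv.1.1.1,
        hd.core.rimg_nb rD yr ⟨hv.2, hv.1.2⟩⟩,
      fun v hv w hw e => (hd.core.rimg_inj rD hv.2 hw.2).mp e, ?_⟩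
    rintro e ⟨he, he'⟩
    obtain ⟨v, hv, rfl⟩ := hd.core.rimg_nb_surj rD yr he'
    exact ⟨v, ⟨⟨comp_adj hr ((hd.core.res_mem_common rD xr fr hv.1).mp he) hv.1.2.2, hv.2⟩, hv.1⟩, rfl⟩
  obtain ⟨m1, m2⟩ := moments (S := P) (P := A) (R := R) (K := 351) (lam := 126) (μ := 108)
    (t := 63) hAP
    (fun r q => q.2.1 rfl)
    (fun r hr g _ q => nb_symm (Set.mem_toFinset.mp hr).1.1.1 q)
    (fun r hr => by rw [toSet]; exact h351 r (Set.mem_toFinset.mp hr).1)
    (fun r hr => by rw [toSet]; exact h63 r (Set.mem_toFinset.mp hr))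
    (fun r hr r' hr' q => by
      rw [toSet]
      exact h126 r (Set.mem_toFinset.mp hr).1 r' ⟨(Set.mem_toFinset.mp hr').1, q⟩)
    (fun r hr r' hr' hne q => by
      rw [toSet]
      refine h108 r (Set.mem_toFinset.mp hr).1 r' (Set.mem_toFinset.mp hr').1 fun c => q ?_
      exact ⟨(Set.mem_toFinset.mp hr').1.1.1.1, Ne.symm hne, c⟩)
  have hA : A.card = (S ∩ nb D y).ncard := (Set.ncard_eq_toFinset_card' _).symm
  have hP : P.card = 1080 := by rw [← h1080]; exact (Set.ncard_eq_toFinset_card' _).symm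
  have h64 : 64 ≤ A.card := by
    obtain ⟨r, hr⟩ := hpos
    have := Set.ncard_le_ncard (s := insert r ((S ∩ nb D y) ∩ nb D r)) (t := S ∩ nb D y)
      (Set.insert_subset hr Set.inter_subset_left)
    rw [Set.ncard_insert_of_notMem (fun q => q.2.2.1 rfl), h63 r hr] at this
    omega
  obtain ⟨j, hj⟩ : ∃ j, A.card = 64 + j := ⟨_, (Nat.add_sub_cancel' h64).symm⟩
  let m : G → ℕ := fun g => (A.filter fun r => R r g).card
  have hout : (P \ A).card + A.card = 1080 := by
    rw [Finset.card_sdiff_add_card_eq_card hAP, hP]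
  have e1 : ∑ g ∈ P \ A, m g = 288 * A.card := by
    show ∑ g ∈ P \ A, (A.filter fun r => R r g).card = _
    omega
  have e2 : ∑ g ∈ P \ A, m g ^ 2 = A.card * (4320 + 108 * j) := by
    show ∑ g ∈ P \ A, (A.filter fun r => R r g).card ^ 2 = _
    rw [show A.card - 1 - 63 = j by omega] at m2
    have : A.card * (351 + (63 * 126 + j * 108)) = A.card * 63 ^ 2 + A.card * (4320 + 108 * j) := by
      ring
    omega
  have hb := sq_sum_le_card_mul_sum_sq (s := P \ A) (f := m)
  rw [e1, e2] at hb
  simp only [Nat.cast_id] at hb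
  have hb' : 82944 * A.card ≤ (P \ A).card * (4320 + 108 * j) := by
    refine Nat.le_of_mul_le_mul_left ?_ (show 0 < A.card by omega)
    calc A.card * (82944 * A.card) = (288 * A.card) ^ 2 := by ring
      _ ≤ _ := hb
      _ = _ := by ring
  have hT : (P \ A).card = 1016 - j := by omega
  rw [hT, hj] at hb'
  rw [← hA, hj]
  by_contra hlt
  have hj56 : j < 56 := by omega
  interval_cases j <;> omega

/-- A member outside meets none or exactly 120 members of the component; those meeting none are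
2160 in number. -/
theorem dichotomy :
    (∀ y ∈ nb D f, y ∉ comp D x f s → y ∈ zset D x f s ∨ (comp D x f s ∩ nb D y).ncard = 120) ∧
      (zset D x f s).ncard = 2160 := by
  classical
  haveI := Fintype.ofFinite G
  obtain ⟨h1080, h351, -, -⟩ := h.counts
  have hd := h.data
  set C := comp D x f s with hCdef
  let S := (nb D f).toFinset
  let P := C.toFinset
  let R : G → G → Prop := fun r g => g ∈ nb D r
  have toSet : ∀ (T : Set G) [Fintype ↥T] (p : G → Prop) [DecidablePred p],
      (T.toFinset.filter p).card = {v | v ∈ T ∧ p v}.ncard := fun T _ p _ => by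
    rw [← Set.ncard_coe_finset]
    congr 1
    ext v
    simp
  have hPS : P ⊆ S := fun r hr => Set.mem_toFinset.mpr (Set.mem_toFinset.mp hr).1.2
  obtain ⟨m1, m2⟩ := moments (S := S) (P := P) (R := R) (K := 3510) (lam := 693) (μ := 351)
    (t := 351) hPS
    (fun r q => q.2.1 rfl)
    (fun r hr g _ q => nb_symm (Set.mem_toFinset.mp hr).1 q)
    (fun r hr => by rw [toSet]; exact hd.card_nb_nb h.hf (Set.mem_toFinset.mp hr).1.2)
    (fun r hr => by rw [toSet]; exact h351 r (Set.mem_toFinset.mp hr))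
    (fun r hr r' hr' q => by
      rw [toSet]
      exact hd.card_nb_three h.hf (Set.mem_toFinset.mp hr).1.2 ⟨(Set.mem_toFinset.mp hr').1.2, q⟩)
    (fun r hr r' hr' hne q => by
      rw [toSet]
      exact hd.card_nb_far h.hf (Set.mem_toFinset.mp hr).1.2 (Set.mem_toFinset.mp hr').1.2
        fun c => q ⟨(Set.mem_toFinset.mp hr').1.1.1, fun e => hne e.symm, c⟩)
  have hP : P.card = 1080 := by rw [← h1080]; exact (Set.ncard_eq_toFinset_card' _).symm
  have hS : S.card = 31671 := by
    rw [← hd.card_nb h.hf]; exact (Set.ncard_eq_toFinset_card' _).symm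
  have hout : (S \ P).card = 30591 := by
    have := Finset.card_sdiff_add_card_eq_card hPS
    omega
  let n : G → ℕ := fun g => (P.filter fun r => R r g).card
  have hn : ∀ g ∈ nb D f, n g = (C ∩ nb D g).ncard := fun g hg => by
    show (P.filter fun r => R r g).card = _
    rw [toSet]
    congr 1
    ext r
    exact ⟨fun q => ⟨q.1, nb_symm q.1.1.1.1 q.2⟩, fun q => ⟨q.1, nb_symm hg.1 q.2⟩⟩
  have e1 : ∑ g ∈ S \ P, n g = 3411720 := by
    show ∑ g ∈ S \ P, (P.filter fun r => R r g).card = _
    rw [hP] at m1; omega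
  have e2 : ∑ g ∈ S \ P, n g ^ 2 = 409406400 := by
    show ∑ g ∈ S \ P, (P.filter fun r => R r g).card ^ 2 = _
    rw [hP] at m2; omega
  have hbd : ∀ g ∈ S \ P, 120 * n g ≤ n g ^ 2 := by
    intro g hg
    obtain ⟨hgS, hgP⟩ := Finset.mem_sdiff.mp hg
    rw [Set.mem_toFinset] at hgS
    rcases Nat.eq_zero_or_pos (n g) with e | e
    · rw [e]; omega
    rw [pow_two]
    refine Nat.mul_le_mul_right _ ?_
    rw [hn g hgS] at e ⊢
    exact h.meet_bound hgS (fun q => hgP (Set.mem_toFinset.mpr q)) ((Set.ncard_pos).mp e)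
  have hsum : ∑ g ∈ S \ P, 120 * n g = ∑ g ∈ S \ P, n g ^ 2 := by
    rw [← Finset.mul_sum, e1, e2]; norm_num
  have hall := (Finset.sum_eq_sum_iff_of_le hbd).mp hsum
  have h120 : ∀ g ∈ S \ P, n g = 0 ∨ n g = 120 := fun g hg => by
    rcases Nat.eq_zero_or_pos (n g) with e | e
    · exact Or.inl e
    · exact Or.inr (Nat.eq_of_mul_eq_mul_right e ((hall g hg).trans (pow_two _))).symm
  have hz : ∀ g, g ∈ zset D x f s ↔ g ∈ S \ P ∧ n g = 0 := by
    intro g
    constructor
    · rintro ⟨hg, hno⟩
      refine ⟨Finset.mem_sdiff.mpr ⟨Set.mem_toFinset.mpr hg,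
        fun q => hno g (Set.mem_toFinset.mp q) (Commute.refl g)⟩, ?_⟩
      rw [hn g hg, Set.ncard_eq_zero]
      exact Set.eq_empty_of_forall_notMem fun r hr => hno r hr.1 hr.2.2.2
    · rintro ⟨hg, e⟩
      obtain ⟨hgS, hgP⟩ := Finset.mem_sdiff.mp hg
      rw [Set.mem_toFinset] at hgS
      refine ⟨hgS, fun a ha hc => ?_⟩
      rw [hn g hgS, Set.ncard_eq_zero] at e
      exact (Set.eq_empty_iff_forall_notMem.mp e a) ⟨ha, ha.1.1.1,
        fun q => hgP (Set.mem_toFinset.mpr (q ▸ ha)), hc⟩
  refine ⟨fun y hy hyC => ?_, ?_⟩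
  · have hm : y ∈ S \ P := Finset.mem_sdiff.mpr
      ⟨Set.mem_toFinset.mpr hy, fun q => hyC (Set.mem_toFinset.mp q)⟩
    rcases h120 y hm with e | e
    · exact Or.inl ((hz y).mpr ⟨hm, e⟩)
    · exact Or.inr (by rw [← hn y hy]; exact e)
  · rw [show zset D x f s = ↑((S \ P).filter fun g => n g = 0) by ext g; simp [hz g],
      Set.ncard_coe_finset]
    have h1 : ∑ g ∈ S \ P, n g = ((S \ P).filter fun g => ¬ n g = 0).card * 120 := by
      rw [← Finset.sum_filter_ne_zero, Finset.sum_const_nat fun g hg => ?_]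
      exact ((h120 g (Finset.mem_filter.mp hg).1).resolve_left (Finset.mem_filter.mp hg).2)
    have h2 := Finset.card_filter_add_card_filter_not (s := S \ P) (fun g => n g = 0)
    omega

/-- Inside, each has 351 neighbours. -/
theorem zset_nb {t : G} (ht : t ∈ zset D x f s) : (zset D x f s ∩ nb D t).ncard = 351 := by
  classical
  haveI := Fintype.ofFinite G
  obtain ⟨h1080, -, -, -⟩ := h.counts
  obtain ⟨hdich, -⟩ := h.dichotomy
  have hd := h.data
  set C := comp D x f s with hCdef
  have tnb := ht.1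
  let U := (nb D f ∩ nb D t).toFinset
  let P := C.toFinset
  have hU : U.card = 3510 := by
    rw [← hd.card_nb_nb h.hf tnb]; exact (Set.ncard_eq_toFinset_card' _).symm
  have hP : P.card = 1080 := by rw [← h1080]; exact (Set.ncard_eq_toFinset_card' _).symm
  have hnot : ∀ g ∈ nb D f ∩ nb D t, g ∉ C := fun g hg q => ht.2 g q hg.2.2.2
  have hdc : ∑ a ∈ P, (U.filter fun g => g ∈ nb D a).card =
      ∑ g ∈ U, (P.filter fun a => g ∈ nb D a).card := by
    simp only [Finset.card_filter]
    exact Finset.sum_comm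
  have hrow : ∀ a ∈ P, (U.filter fun g => g ∈ nb D a).card = 351 := by
    intro a ha
    rw [Set.mem_toFinset] at ha
    rw [← hd.card_nb_far h.hf tnb ha.1.2 (fun c => ht.2 a ha c), ← Set.ncard_coe_finset]
    congr 1
    ext g
    simp [U]
    tauto
  have hcol : ∀ g ∈ U, (P.filter fun a => g ∈ nb D a).card = (C ∩ nb D g).ncard := by
    intro g hg
    rw [Set.mem_toFinset] at hg
    rw [← Set.ncard_coe_finset]
    congr 1
    ext a
    simp only [Finset.coe_filter, Set.mem_ofPred_eq, Set.mem_inter_iff, P, Set.mem_toFinset]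
    exact ⟨fun q => ⟨q.1, nb_symm q.1.1.1.1 q.2⟩, fun q => ⟨q.1, nb_symm hg.1.1 q.2⟩⟩
  rw [Finset.sum_congr rfl hrow, Finset.sum_const, smul_eq_mul, hP, Finset.sum_congr rfl hcol,
    ← Finset.sum_filter_add_sum_filter_not U (fun g => g ∈ zset D x f s),
    Finset.sum_eq_zero (fun g hg => by
      rw [Set.ncard_eq_zero]
      exact Set.eq_empty_of_forall_notMem fun r hr =>
        (Finset.mem_filter.mp hg).2.2 r hr.1 hr.2.2.2), zero_add,
    Finset.sum_const_nat (m := 120) (fun g hg => by
      have hg' := Set.mem_toFinset.mp (Finset.mem_filter.mp hg).1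
      exact (hdich g hg'.1 (hnot g hg')).resolve_left (Finset.mem_filter.mp hg).2)] at hdc
  have h2 := Finset.card_filter_add_card_filter_not (s := U) (fun g => g ∈ zset D x f s)
  have h3 : (zset D x f s ∩ nb D t).ncard = (U.filter fun g => g ∈ zset D x f s).card := by
    rw [← Set.ncard_coe_finset]
    congr 1
    ext g
    simp only [Finset.coe_filter, Set.mem_ofPred_eq, Set.mem_inter_iff, U, Set.mem_toFinset]
    exact ⟨fun q => ⟨⟨q.1.1, q.2⟩, q.1⟩, fun q => ⟨q.2, q.1.2⟩⟩
  omega

/-- The conjugate of the component by a member meeting it nowhere lies among those. -/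
theorem moved {u : G} (hu : u ∈ zset D x f s) :
    Set24 D (cj u x) f (cj u s) ∧ (∀ q, q ∈ comp D (cj u x) f (cj u s) ↔ cj u q ∈ comp D x f s) ∧
      comp D (cj u x) f (cj u s) ⊆ zset D x f s := by
  have H := h.H
  have uf : cj u f = f := cj_eq_of_commute hu.1.2.2.symm
  have h' : Set24 D (cj u x) f (cj u s) := by
    refine ⟨H, h.hC, h.hconn, h.res, H.mem_cj u h.hx, h.hf, fun q => h.hn ?_, ?_⟩
    · rw [← uf] at q; exact commute_cj_iff.1 q
    · have := common_cj H u h.hs
      rwa [uf] at this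
  have hiff : ∀ q, q ∈ comp D (cj u x) f (cj u s) ↔ cj u q ∈ comp D x f s := by
    intro q
    constructor
    · intro hq
      have := comp_cj H u hq
      rwa [H.cj_invol hu.1.1, H.cj_invol hu.1.1, uf] at this
    · intro hq
      have := comp_cj H u hq
      rwa [H.cj_invol hu.1.1, uf] at this
  refine ⟨h', hiff, fun q hq => ?_⟩
  have ha := (hiff q).1 hq
  set a := cj u q with hadef
  have hqa : q = cj a u := by
    rw [← H.braid hu.1.1 ha.1.1.1 (hu.2 a ha), hadef, H.cj_invol hu.1.1]
  refine ⟨hq.1.2, fun b hb c => hu.2 (cj a b) (comp_closed H h.hs a ha b hb) ?_⟩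
  rw [hqa] at c
  have := (commute_cj_iff (g := a)).2 c
  rwa [H.cj_invol ha.1.1.1] at this

/-- Those members commute with `x`. -/
theorem zset_common {y : G} (hy : y ∈ zset D x f s) : y ∈ common D x f := by
  have H := h.H
  have hd := h.data
  by_cases hc : Commute x y
  · exact ⟨⟨hy.1.1, fun e => h.hn (e ▸ hy.1.2.2.symm), hc⟩, hy.1⟩
  exfalso
  obtain ⟨-, hZ⟩ := h.dichotomy
  obtain ⟨hy', hyiff, hysub⟩ := h.moved hy
  set Y := comp D (cj y x) f (cj y s) with hYdef
  have hyY : y ∉ Y := fun q => by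
    have := (hyiff y).1 q
    rw [cj_eq_of_commute (Commute.refl y)] at this
    exact hy.2 y this (Commute.refl y)
  -- closed among the others
  have closedIn : ∀ {x' t : G}, Set24 D x' f t → comp D x' f t ⊆ zset D x f s →
      ∀ q ∈ comp D x' f t, ∀ z ∈ zset D x f s ∩ nb D q, z ∈ comp D x' f t := by
    intro x' t h' hsub q hq z hz
    have e : comp D x' f t ∩ nb D q = zset D x f s ∩ nb D q :=
      Set.eq_of_subset_of_ncard_le (fun r hr => ⟨hsub hr.1, hr.2⟩)
        (by rw [h.zset_nb (hsub hq), h'.counts.2.1 q hq])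
    exact (e.symm ▸ hz : z ∈ comp D x' f t ∩ nb D q).1
  have same : ∀ u ∈ zset D x f s ∩ nb D y, cj u x = cj y x * f * cj y x := by
    intro u hu
    obtain ⟨hu', huiff, husub⟩ := h.moved hu.1
    set U := comp D (cj u x) f (cj u s) with hUdef
    have hyU : y ∉ U := fun q => by
      have huU := closedIn hu' husub y q u hu
      have := (huiff u).1 huU
      rw [cj_eq_of_commute (Commute.refl u)] at this
      exact hu.1.2 u this (Commute.refl u)
    -- the two components meet
    obtain ⟨q, hqY, hqU⟩ : ∃ q, q ∈ Y ∧ q ∈ U := by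
      by_contra hdis
      have hd' : Disjoint Y U := Set.disjoint_left.mpr fun q a b => hdis ⟨q, a, b⟩
      have hsub : Y ∪ U ⊆ zset D x f s := Set.union_subset hysub husub
      have e : Y ∪ U = zset D x f s := Set.eq_of_subset_of_ncard_le hsub (by
        rw [Set.ncard_union_eq hd', hy'.counts.1, hu'.counts.1, hZ])
      have hyYU : y ∈ Y ∪ U := e.symm ▸ hy
      exact hyYU.elim hyY hyU
    have sub : Y ⊆ U := by
      intro r hr
      have hr' : r ∈ comp D (cj y x) f q := by rw [comp_eq hy'.hs hqY]; exact hr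
      suffices key : ∀ r, Relation.ReflTransGen
          (fun p q => q ∈ common D (cj y x) f ∧ Commute p q) q r → r ∈ Y ∧ r ∈ U from (key r hr'.2).2
      intro r hr
      induction hr with
      | refl => exact ⟨hqY, hqU⟩
      | @tail a b _ hab ih =>
        have hbY : b ∈ Y := comp_adj ih.1 hab.1 hab.2
        refine ⟨hbY, ?_⟩
        by_cases e : b = a
        · exact e ▸ ih.2
        · exact closedIn hu' husub a ih.2 b ⟨hysub hbY, hab.1.1.1, e, hab.2⟩
    -- the pair is determined
    have hz : cj y s ∈ Y := mem_comp_self hy'.hs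
    have hzU := sub hz
    rcases pairUnique24 hd (cj y x) f (cj y s) (cj u x) hy'.hx h.hf hy'.hn hy'.hs
        (nb_symm hu'.hx hzU.1.1) hu'.hn
        (fun w hw => (sub (comp_adj hz hw.1 hw.2.2.2)).1.1.2.2) with e | e
    · exfalso
      refine hc (hd.core.tt.commute_of_commute_mul h.hx hy.1.1 hu.1.1.1 hu.2.2.1.symm ?_).1
      have := cj_cj y u x
      rw [e, H.cj_invol hy.1.1] at this
      exact (commute_of_cj_eq this.symm).symm
    · exact e
  obtain ⟨u, v, hu, hv, huv⟩ := (Set.one_lt_ncard_iff).mp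
    (show 1 < (zset D x f s ∩ nb D y).ncard by rw [h.zset_nb hy]; norm_num)
  have hux : cj u x = x := by
    refine cj_eq_of_commute (hd.core.tt.commute_of_commute_mul h.hx hu.1.1.1 hv.1.1.1 huv ?_).1.symm
    have := cj_cj u v x
    rw [same v hv, ← same u hu, H.cj_invol hu.1.1.1] at this
    exact (commute_of_cj_eq this.symm).symm
  have e := same u hu
  rw [hux] at e
  have e' : cj (cj y x) f = x := by
    rw [cj, H.inv' hy'.hx]; exact e.symm
  have e'' : cj y (cj x f) = x := by
    have : cj (cj y x) (cj y f) = cj y (cj x f) := by simp only [cj]; group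
    rw [← this, cj_eq_of_commute hy.1.2.2.symm]
    exact e'
  have e3 : cj x f = cj y x := by
    rw [← H.cj_invol hy.1.1 (cj x f), e'']
  rw [H.braid h.hx h.hf h.hn] at e3
  refine h.hn (hd.core.tt.commute_of_commute_mul h.hx h.hf hy.1.1 hy.1.2.1.symm ?_).1
  have := cj_cj f y x
  rw [← e3, H.cj_invol h.hf] at this
  exact (commute_of_cj_eq this.symm).symm

end Set24

end Cfsg.Agent.H41.FischerTop
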